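import Cfsg.Agent.Lib.Helper6.M24Idx.Perm2

set_option autoImplicit false
set_option linter.unusedSectionVars false

/-! # Small blocks of transitive groups coming from fixed points of a point stabilizer -/

namespace Cfsg.Agent.Lib.Helper6.M24Idx

open scoped Pointwise

section generic

variable {X : Type*} [Fintype X] [DecidableEq X]

/-- the conjugate of the point stabilizer stabilizes the image of a stabilized set -/
theorem image_inv_of_conj {K : Subgroup (Equiv.Perm X)} {T : Finset X} {a : X}
    (hT : Inv (stb K a) T) {h : Equiv.Perm X} (hh : h ∈ K) : Inv (stb K (h a)) (T.image h) := by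
  intro k hk x hx
  obtain ⟨t, ht, rfl⟩ := Finset.mem_image.mp hx
  have h1 := hT _ (conj_mem_stb' hh hk) t ht
  rw [Finset.mem_image]
  refine ⟨_, h1, ?_⟩
  simp only [Equiv.Perm.mul_apply, perm_apply_inv]

/-- the conjugate of the point stabilizer fixes the image of a fixed point -/
theorem fix_of_conj {K : Subgroup (Equiv.Perm X)} {y a : X}
    (hy : ∀ k ∈ stb K a, k y = y) {h : Equiv.Perm X} (hh : h ∈ K) :
    ∀ k ∈ stb K (h a), k (h y) = h y := by
  intro k hk
  have h1 := hy _ (conj_mem_stb' hh hk)
  simp only [Equiv.Perm.mul_apply] at h1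
  have := congrArg h h1
  rwa [perm_apply_inv] at this

/-- a block and a fixed point of an element of the point stabilizer outside the block: the block
of the fixed point is invariant under the element -/
theorem block_fix {K : Subgroup (Equiv.Perm X)} (htr : ∀ x y : X, ∃ k ∈ K, k x = y)
    {T : Finset X} {a : X} (ha : a ∈ T) (hT : ∀ h ∈ K, h a ∈ T → T.image h = T)
    {g : Equiv.Perm X} (hg : g ∈ stb K a) {f : X} (hf : g f = f) (hfT : f ∉ T) :
    ∃ h ∈ K, h a = f ∧ Disjoint (T.image h) T ∧ ∀ x ∈ T.image h, g x ∈ T.image h := by
  obtain ⟨h, hh, hha⟩ := htr a f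
  refine ⟨h, hh, hha, ?_, ?_⟩
  · rw [Finset.disjoint_left]
    intro x hx hxT
    obtain ⟨t, ht, rfl⟩ := Finset.mem_image.mp hx
    have := block_of_point htr ha hT hh ht hxT
    apply hfT
    rw [← hha, ← this]
    exact Finset.mem_image_of_mem _ ha
  · have hinvT : Inv (stb K a) T := by
      apply inv_of_image_eq
      intro k hk
      have hk' := mem_stb.mp hk
      exact hT k hk'.1 (by rw [hk'.2]; exact ha)
    have hg' : g ∈ stb K (h a) := by
      rw [mem_stb, hha]
      exact ⟨(mem_stb.mp hg).1, hf⟩
    exact fun x hx => image_inv_of_conj hinvT hh g hg' x hx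

/-- fixed points in two disjoint sets -/
theorem card_fix_ge (g : Equiv.Perm X) {T P : Finset X} (hd : Disjoint P T) :
    (T ∩ fixF g).card + (P ∩ fixF g).card ≤ (fixF g).card := by
  rw [← Finset.card_union_of_disjoint]
  · apply Finset.card_le_card
    intro x hx
    rcases Finset.mem_union.mp hx with h | h
    · exact (Finset.mem_inter.mp h).2
    · exact (Finset.mem_inter.mp h).2
  · rw [Finset.disjoint_left]
    intro x hx hx'
    exact (Finset.disjoint_left.mp hd) (Finset.mem_inter.mp hx').1 (Finset.mem_inter.mp hx).1

/-- **blocks of size two**: if the point stabilizer fixes exactly one further point, the two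
points form a block -/
theorem block_two {K : Subgroup (Equiv.Perm X)} [Finite K] {a y : X}
    (hy : ∀ k ∈ stb K a, k y = y) (hmove : ∀ z, z ≠ a → z ≠ y → ∃ k ∈ stb K a, k z ≠ z) :
    ∀ h ∈ K, h a ∈ ({a, y} : Finset X) → ({a, y} : Finset X).image h = {a, y} := by
  intro h hh hha
  rw [Finset.mem_insert, Finset.mem_singleton] at hha
  rcases hha with hha | hha
  · have hh' : h ∈ stb K a := mem_stb.mpr ⟨hh, hha⟩
    rw [Finset.image_insert, Finset.image_singleton, hha, hy h hh']
  · -- the stabilizers of `a` and `y` coincide
    have hle : stb K a ≤ stb K y := fun k hk => mem_stb.mpr ⟨(mem_stb.mp hk).1, hy k hk⟩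
    have hcard : Nat.card (stb K y) = Nat.card (stb K a) := by
      rw [← hha]
      exact card_stb_conj hh a
    haveI : Finite (stb K y) := Finite.of_injective (fun k : stb K y => (⟨k.1, stb_le K y k.2⟩ : K))
      (fun k l hkl => Subtype.ext (congrArg (fun z : K => z.1) hkl))
    have heq : stb K a = stb K y := Subgroup.eq_of_le_of_card_ge hle (le_of_eq hcard)
    have hfix : ∀ k ∈ stb K a, k (h y) = h y := by
      intro k hk
      rw [heq, ← hha] at hk
      exact fix_of_conj hy hh k hk
    have hhy : h y = a := by
      by_contra hne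
      by_cases hne2 : h y = y
      · have hya : y = a := h.injective (hne2.trans hha.symm)
        exact hne (by rw [hne2]; exact hya)
      · obtain ⟨k, hk, hkz⟩ := hmove (h y) hne hne2
        exact hkz (hfix k hk)
    rw [Finset.image_insert, Finset.image_singleton, hha, hhy, Finset.pair_comm]

/-- **blocks of size three**: a set of three points stabilized by the point stabilizer, all of
whose other orbits have at least three points, is a block -/
theorem block_three {K : Subgroup (Equiv.Perm X)} [Finite K] (htr : ∀ x y : X, ∃ k ∈ K, k x = y)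
    {T : Finset X} (hc : T.card = 3) {a : X} (ha : a ∈ T) (hT : Inv (stb K a) T)
    (hbig : ∀ z, z ∉ T → 3 ≤ (orb (stb K a) z).card) :
    ∀ h ∈ K, h a ∈ T → T.image h = T := by
  intro h hh hha
  have hfin : ∀ x, Finite (stb K x) := fun x =>
    Finite.of_injective (fun k : stb K x => (⟨k.1, stb_le K x k.2⟩ : K))
      (fun k l hkl => Subtype.ext (congrArg (fun z : K => z.1) hkl))
  have hcardstb : ∀ x, Nat.card (stb K x) = Nat.card (stb K a) := by
    intro x
    obtain ⟨k, hk, rfl⟩ := htr a x
    exact card_stb_conj hk a
  have horb_a : ∀ t ∈ T, t ≠ a → (orb (stb K a) t).card ≤ 2 := by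
    intro t ht hta
    have hsub : orb (stb K a) t ⊆ T.erase a := by
      intro y hy
      obtain ⟨k, hk, rfl⟩ := mem_orb.mp hy
      rw [Finset.mem_erase]
      refine ⟨?_, hT k hk t ht⟩
      intro hka
      have hka' : k a = a := (mem_stb.mp hk).2
      exact hta (k.injective (hka.trans hka'.symm))
    calc (orb (stb K a) t).card ≤ (T.erase a).card := Finset.card_le_card hsub
      _ = 2 := by rw [Finset.card_erase_of_mem ha, hc]
  have key : ∀ b ∈ T, ∀ t ∈ T, (orb (stb K b) t).card ≤ 2 := by
    intro b hb t ht
    by_cases hbt : t = b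
    · have hsub : orb (stb K b) t ⊆ {t} := by
        intro y hy
        obtain ⟨k, hk, rfl⟩ := mem_orb.mp hy
        rw [Finset.mem_singleton, hbt]
        exact (mem_stb.mp hk).2
      calc (orb (stb K b) t).card ≤ ({t} : Finset X).card := Finset.card_le_card hsub
        _ ≤ 2 := by rw [Finset.card_singleton]; norm_num
    by_cases hba : b = a
    · rw [hba]
      exact horb_a t ht (by rw [← hba]; exact hbt)
    by_cases hta : t = a
    · rw [hta, card_orb_stb_swap b a (hcardstb b)]
      exact horb_a b hb hba
    -- the three points `a`, `b`, `t` are all of `T`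
    have hTeq : T = {a, b, t} := by
      symm
      apply Finset.eq_of_subset_of_card_le
      · intro x hx
        rw [Finset.mem_insert, Finset.mem_insert, Finset.mem_singleton] at hx
        rcases hx with rfl | rfl | rfl
        · exact ha
        · exact hb
        · exact ht
      · rw [hc, Finset.card_insert_of_notMem, Finset.card_insert_of_notMem, Finset.card_singleton]
        · rw [Finset.mem_singleton]
          exact fun h' => hbt h'.symm
        · rw [Finset.mem_insert, Finset.mem_singleton]
          rintro (h' | h')
          · exact hba h'.symm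
          · exact hta h'.symm
    have hLfix : ∀ k ∈ stb (stb K a) b, k t = t := by
      intro k hk
      have hk1 := mem_stb.mp hk
      have hk2 := mem_stb.mp hk1.1
      have hkt : k t ∈ T := hT k hk1.1 t ht
      rw [hTeq, Finset.mem_insert, Finset.mem_insert, Finset.mem_singleton] at hkt
      rcases hkt with h' | h' | h'
      · exact absurd (k.injective (h'.trans hk2.2.symm)) hta
      · exact absurd (k.injective (h'.trans hk1.2.symm)) hbt
      · exact h'
    have hLle : stb (stb K a) b ≤ stb K b := by
      intro k hk
      have hk1 := mem_stb.mp hk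
      have hk2 := mem_stb.mp hk1.1
      exact mem_stb.mpr ⟨hk2.1, hk1.2⟩
    have h1 := card_orb_le_of_le hLle t hLfix
    have h2 := card_eq_orb_mul_stb (stb K a) b
    rw [hcardstb b, h2] at h1
    haveI := hfin a
    have hpos : 0 < Nat.card (stb (stb K a) b) := Nat.card_pos
    have h3 := Nat.le_of_mul_le_mul_right h1 hpos
    exact h3.trans (horb_a b hb hba)
  -- every point of `T` comes from `T`
  have hsub : T ⊆ T.image h := by
    intro t ht
    by_contra hnot
    have hz : h⁻¹ t ∉ T := by
      intro hz
      apply hnot
      rw [Finset.mem_image]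
      exact ⟨_, hz, perm_apply_inv h t⟩
    have h1 := hbig _ hz
    have h2 := card_orb_stb_conj hh a (h⁻¹ t)
    rw [perm_apply_inv] at h2
    have h3 := key (h a) hha t ht
    omega
  symm
  apply Finset.eq_of_subset_of_card_le hsub
  rw [Finset.card_image_of_injective _ h.injective]

end generic

end Cfsg.Agent.Lib.Helper6.M24Idx
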