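import Cfsg.Agent.Lib.Helper6.M24Idx.Odd2

set_option autoImplicit false
set_option linter.unusedSectionVars false

/-! # Subgroups of index 276 stabilize a pair of points -/

namespace Cfsg.Agent.Lib.Helper6.M24Idx

open Cfsg
open Cfsg.Agent.Lib.Helper9.M24 (image_mem_octads card_M24)

open scoped Pointwise

theorem card_mod_eleven {L : Subgroup (Equiv.Perm GolayPt)} (hL : L ≤ M24)
    (h11 : 11 ∣ Nat.card L) {S : Finset GolayPt} (hS : Inv L S) : S.card % 11 ≤ 2 := by
  have : Fact (Nat.Prime 11) := ⟨by norm_num⟩
  obtain ⟨g, hg, hg11, hg1⟩ := exists_prime_order L 11 h11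
  have hfix := card_fix_eleven (hL hg) hg11 hg1
  have h1 := card_modEq_fix g 11 hg11 S (hS g hg)
  unfold Nat.ModEq at h1
  have h3 := Finset.card_le_card (Finset.inter_subset_right : S ∩ fixF g ⊆ fixF g)
  have h4 := Nat.mod_le (S ∩ fixF g).card 11
  omega

theorem card_mod_seven {L : Subgroup (Equiv.Perm GolayPt)} (hL : L ≤ M24)
    (h7 : 7 ∣ Nat.card L) {S : Finset GolayPt} (hS : Inv L S) : S.card % 7 ≤ 3 := by
  have : Fact (Nat.Prime 7) := ⟨by norm_num⟩
  obtain ⟨g, hg, hg7, hg1⟩ := exists_prime_order L 7 h7
  have hfix := card_fix_seven (hL hg) hg7 hg1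
  have h1 := card_modEq_fix g 7 hg7 S (hS g hg)
  unfold Nat.ModEq at h1
  have h3 := Finset.card_le_card (Finset.inter_subset_right : S ∩ fixF g ⊆ fixF g)
  have h4 := Nat.mod_le (S ∩ fixF g).card 7
  omega

theorem card_orb_mod_eleven {L : Subgroup (Equiv.Perm GolayPt)} (hL : L ≤ M24) {a : GolayPt}
    (hLa : ∀ k ∈ L, k a = a) (h11 : 11 ∣ Nat.card L) {S : Finset GolayPt} (hS : Inv L S)
    (haS : a ∉ S) : S.card % 11 ≤ 1 := by
  have : Fact (Nat.Prime 11) := ⟨by norm_num⟩
  obtain ⟨g, hg, hg11, hg1⟩ := exists_prime_order L 11 h11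
  have hfix := card_fix_eleven (hL hg) hg11 hg1
  have h1 := card_modEq_fix g 11 hg11 S (hS g hg)
  unfold Nat.ModEq at h1
  have h2 : S ∩ fixF g ⊆ (fixF g).erase a := by
    intro x hx
    rw [Finset.mem_inter] at hx
    rw [Finset.mem_erase]
    exact ⟨fun hxa => haS (hxa ▸ hx.1), hx.2⟩
  have h3 := Finset.card_le_card h2
  rw [Finset.card_erase_of_mem (mem_fixF.mpr (hLa g hg)), hfix] at h3
  have h4 := Nat.mod_le (S ∩ fixF g).card 11
  omega

theorem not_mem_orb_stb {K : Subgroup (Equiv.Perm GolayPt)} {a z : GolayPt} (hza : z ≠ a) :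
    a ∉ orb (stb K a) z := by
  intro hcon
  obtain ⟨k, hk, hkz⟩ := mem_orb.mp hcon
  exact hza (k.injective (hkz.trans (mem_stb.mp hk).2.symm))

/-- **subgroups of order 887040 stabilize a pair of points** -/
theorem even_case (K : Subgroup (Equiv.Perm GolayPt)) (hK : K ≤ M24)
    (hcard : Nat.card K = 887040) : ∃ s : Finset GolayPt, s.card = 2 ∧ Inv K s := by
  have h11 : 11 ∣ Nat.card K := by rw [hcard]; norm_num
  have h7 : 7 ∣ Nat.card K := by rw [hcard]; norm_num
  have horb : ∀ a, (orb K a).card = 2 ∨ (orb K a).card = 22 ∨ (orb K a).card = 24 := by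
    intro a
    have h1 := card_mod_eleven hK h11 (inv_orb K a)
    have h2 := card_mod_seven hK h7 (inv_orb K a)
    have h3 : (orb K a).card ≤ 24 := by
      have := Finset.card_le_univ (orb K a)
      rwa [card_pts] at this
    have h4 : 1 ≤ (orb K a).card := Finset.card_pos.mpr ⟨a, self_mem_orb K a⟩
    have h5 := card_orb_dvd K a
    rw [hcard] at h5
    have h6 : (orb K a).card ≠ 1 := by
      intro hone
      obtain ⟨b, hb⟩ := Finset.card_eq_one.mp hone
      have hle : K ≤ stb M24 a := by
        intro k hk
        refine mem_stb.mpr ⟨hK hk, ?_⟩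
        have h1 : k a ∈ orb K a := mem_orb.mpr ⟨k, hk, rfl⟩
        have h2 : a ∈ orb K a := self_mem_orb K a
        rw [hb, Finset.mem_singleton] at h1 h2
        rw [h1, h2]
      have := Subgroup.card_dvd_of_le hle
      rw [hcard, card_stb_M24] at this
      norm_num at this
    generalize (orb K a).card = n at *
    interval_cases n <;> omega
  rcases horb none with h2 | h22 | h24
  · exact ⟨orb K none, h2, inv_orb K none⟩
  · refine ⟨(orb K none)ᶜ, ?_, (inv_orb K none).compl⟩
    rw [Finset.card_compl, card_pts, h22]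
  · exfalso
    set a : GolayPt := none with ha
    have huniv : orb K a = Finset.univ := by
      apply Finset.eq_univ_of_card
      rw [h24, card_pts]
    have htr : ∀ x y : GolayPt, ∃ k ∈ K, k x = y := by
      intro x y
      exact trans_orb K a x (huniv ▸ Finset.mem_univ x) y (huniv ▸ Finset.mem_univ y)
    have hKa : stb K a ≤ M24 := (stb_le K a).trans hK
    have hfixa : ∀ k ∈ stb K a, k a = a := fun k hk => (mem_stb.mp hk).2
    have hcarda : Nat.card (stb K a) = 36960 := by
      have := card_eq_of_trans htr a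
      omega
    have h11a : 11 ∣ Nat.card (stb K a) := by rw [hcarda]; norm_num
    have h7a : 7 ∣ Nat.card (stb K a) := by rw [hcarda]; norm_num
    -- orbits of the point stabilizer
    have horb' : ∀ z, z ≠ a → (orb (stb K a) z).card = 1 ∨ (orb (stb K a) z).card = 22 := by
      intro z hza
      have hnot := not_mem_orb_stb (K := K) hza
      have h1 := card_orb_mod_eleven hKa hfixa h11a (inv_orb (stb K a) z) hnot
      have h2 := card_orb_mod_seven hKa hfixa h7a (inv_orb (stb K a) z) hnot
      have h3 : (orb (stb K a) z).card ≤ 23 := by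
        have h := Finset.card_le_card (Finset.subset_univ (insert a (orb (stb K a) z)))
        rw [Finset.card_insert_of_notMem hnot, Finset.card_univ, card_pts] at h
        omega
      have h4 : 1 ≤ (orb (stb K a) z).card := Finset.card_pos.mpr ⟨z, self_mem_orb _ z⟩
      have h5 := card_orb_dvd (stb K a) z
      rw [hcarda] at h5
      generalize (orb (stb K a) z).card = n at *
      interval_cases n <;> omega
    haveI : Fact (Nat.Prime 11) := ⟨by norm_num⟩
    haveI : Fact (Nat.Prime 7) := ⟨by norm_num⟩
    obtain ⟨g11, hg11, hg11p, hg11ne⟩ := exists_prime_order (stb K a) 11 h11a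
    obtain ⟨z, hz⟩ : ∃ z, g11 z ≠ z := by
      by_contra hcon
      push Not at hcon
      exact hg11ne (Equiv.ext hcon)
    have hza : z ≠ a := by
      intro h
      rw [h] at hz
      exact hz (hfixa g11 hg11)
    have h22' : (orb (stb K a) z).card = 22 := by
      rcases horb' z hza with h | h
      · exfalso
        obtain ⟨b, hb⟩ := Finset.card_eq_one.mp h
        have h1 : g11 z ∈ orb (stb K a) z := mem_orb.mpr ⟨g11, hg11, rfl⟩
        have h2 : z ∈ orb (stb K a) z := self_mem_orb _ z
        rw [hb, Finset.mem_singleton] at h1 h2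
        exact hz (h1.trans h2.symm)
      · exact h
    set S := orb (stb K a) z with hS
    have haS : a ∉ S := not_mem_orb_stb hza
    have hcompl : (insert a S)ᶜ.card = 1 := by
      rw [Finset.card_compl, card_pts, Finset.card_insert_of_notMem haS, h22']
    obtain ⟨b1, hb1⟩ := Finset.card_eq_one.mp hcompl
    have hinvIns : Inv (stb K a) (insert a S) := by
      intro k hk x hx
      rw [Finset.mem_insert] at hx ⊢
      rcases hx with rfl | hx
      · exact Or.inl (hfixa k hk)
      · exact Or.inr (inv_orb _ _ k hk x hx)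
    have hb1fix : ∀ k ∈ stb K a, k b1 = b1 := by
      intro k hk
      have := hinvIns.compl k hk b1 (by rw [hb1]; exact Finset.mem_singleton_self b1)
      rwa [hb1, Finset.mem_singleton] at this
    have hmove : ∀ z', z' ≠ a → z' ≠ b1 → ∃ k ∈ stb K a, k z' ≠ z' := by
      intro z' hz'a hz'b
      have hz'S : z' ∈ S := by
        have : z' ∉ (insert a S)ᶜ := by
          rw [hb1, Finset.mem_singleton]
          exact hz'b
        rw [Finset.mem_compl, not_not, Finset.mem_insert] at this
        rcases this with h | h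
        · exact absurd h hz'a
        · exact h
      by_contra hcon
      push Not at hcon
      have h1 : orb (stb K a) z' = S := orb_eq_of_mem hz'S
      have h2 : orb (stb K a) z' ⊆ {z'} := by
        intro y hy
        obtain ⟨k, hk, rfl⟩ := mem_orb.mp hy
        rw [Finset.mem_singleton]
        exact hcon k hk
      have h3 := Finset.card_le_card h2
      rw [h1, h22', Finset.card_singleton] at h3
      omega
    have hT := block_two hb1fix hmove
    have hab1 : a ≠ b1 := by
      intro h
      have : b1 ∈ (insert a S)ᶜ := by rw [hb1]; exact Finset.mem_singleton_self b1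
      rw [Finset.mem_compl, Finset.mem_insert] at this
      exact this (Or.inl h.symm)
    have hc2 : ({a, b1} : Finset GolayPt).card = 2 := Finset.card_pair hab1
    obtain ⟨g7, hg7, hg7p, hg7ne⟩ := exists_prime_order (stb K a) 7 h7a
    have hfix7 := card_fix_seven (hKa hg7) hg7p hg7ne
    have := fix_two_blocks htr (Finset.mem_insert_self a {b1}) hT hg7 7 hg7p
      (by rw [hc2, hfix7]; norm_num)
    rw [hc2, hfix7] at this
    omega

end Cfsg.Agent.Lib.Helper6.M24Idx
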