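import Cfsg.Agent.Lib.Helper6.M24Idx.Perm2
import Cfsg.Agent.Lib.Helper9.M24F
import Cfsg.Agent.S0363

set_option autoImplicit false
set_option linter.unusedSectionVars false

/-! # Facts on the group of the length-24 code: octads, fixed points, multiple transitivity -/

namespace Cfsg.Agent.Lib.Helper6.M24Idx

open Cfsg
open Cfsg.Agent.Lib.Helper9.M24 (image_mem_octads eq_one_of_fixes exists_map_base5 base5 card_M24)

open scoped Pointwise

theorem card_octad {O : Finset GolayPt} (hO : O ∈ octads) : O.card = 8 :=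
  Cfsg.Agent.S0363.result.1 O hO

/-- two octads with five common points are equal -/
theorem octad_eq_of_five {O O' R : Finset GolayPt} (hO : O ∈ octads) (hO' : O' ∈ octads)
    (hR : 5 ≤ R.card) (h1 : R ⊆ O) (h2 : R ⊆ O') : O = O' := by
  obtain ⟨R5, hR5, hc⟩ := Finset.exists_subset_card_eq hR
  obtain ⟨b, _, hb⟩ := Cfsg.Agent.S0363.result.2 R5 hc
  rw [hb O ⟨hO, hR5.trans h1⟩, hb O' ⟨hO', hR5.trans h2⟩]

/-- five points lie in an octad -/
theorem exists_octad {R : Finset GolayPt} (hR : R.card = 5) : ∃ O ∈ octads, R ⊆ O := by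
  obtain ⟨b, hb, _⟩ := Cfsg.Agent.S0363.result.2 R hR
  exact ⟨b, hb.1, hb.2⟩

/-- a subgroup stabilizing five points of an octad as a set stabilizes the octad -/
theorem inv_octad_of_inv {K : Subgroup (Equiv.Perm GolayPt)} (hK : K ≤ M24) {O R : Finset GolayPt}
    (hO : O ∈ octads) (hR : 5 ≤ R.card) (hRO : R ⊆ O) (hinv : Inv K R) : Inv K O := by
  apply inv_of_image_eq
  intro k hk
  have h1 : O.image k ∈ octads := image_mem_octads (hK hk) hO
  have h2 : R ⊆ O.image k := by
    rw [← hinv.image_eq hk]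
    exact Finset.image_subset_image hRO
  exact (octad_eq_of_five hO h1 hR hRO h2).symm

/-- a nontrivial element of prime order at least five fixes at most eight points -/
theorem card_fix_le {g : Equiv.Perm GolayPt} (hg : g ∈ M24) (p : ℕ) [hp : Fact p.Prime] (h5 : 5 ≤ p)
    (hgp : g ^ p = 1) (hne : g ≠ 1) : (fixF g).card ≤ 8 := by
  by_contra hcon
  push_neg at hcon
  obtain ⟨R5, hR5, hc⟩ := Finset.exists_subset_card_eq (show 5 ≤ (fixF g).card by omega)
  obtain ⟨O, hO, hRO⟩ := exists_octad hc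
  have hfixR : ∀ x ∈ R5, g x = x := fun x hx => mem_fixF.mp (hR5 hx)
  have hgO : O.image g = O := by
    have h1 : O.image g ∈ octads := image_mem_octads hg hO
    have h2 : R5 ⊆ O.image g := by
      intro x hx
      rw [Finset.mem_image]
      exact ⟨x, hRO hx, hfixR x hx⟩
    exact (octad_eq_of_five hO h1 (by omega) hRO h2).symm
  have hOinv : ∀ x ∈ O, g x ∈ O := by
    intro x hx
    rw [← hgO]
    exact Finset.mem_image_of_mem _ hx
  -- the part of the octad that is moved
  have hsinv : ∀ x ∈ O \ fixF g, g x ∈ O \ fixF g := by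
    intro x hx
    rw [Finset.mem_sdiff] at hx ⊢
    refine ⟨hOinv x hx.1, ?_⟩
    intro h
    apply hx.2
    rw [mem_fixF] at h ⊢
    exact g.injective h
  have h3 := card_modEq_fix g p hgp (O \ fixF g) hsinv
  have h4 : (O \ fixF g) ∩ fixF g = ∅ := by
    ext x
    simp
  rw [h4, Finset.card_empty] at h3
  have h5' : (O \ fixF g).card ≤ 3 := by
    have h6 : R5 ⊆ O ∩ fixF g := fun x hx => Finset.mem_inter.mpr ⟨hRO hx, hR5 hx⟩
    have h7 := Finset.card_le_card h6
    have h8 := Finset.card_sdiff_add_card_inter O (fixF g)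
    have h9 := card_octad hO
    omega
  have h10 : (O \ fixF g).card = 0 := by
    have := Nat.ModEq.dvd h3.symm
    have h11 : (p : ℤ) ∣ ((O \ fixF g).card : ℤ) := by simpa using this
    have h12 : p ∣ (O \ fixF g).card := by exact_mod_cast h11
    rcases Nat.eq_zero_or_pos (O \ fixF g).card with h | h
    · exact h
    · have := Nat.le_of_dvd h h12
      omega
  have hOfix : O ⊆ fixF g := by
    rw [Finset.card_eq_zero, Finset.sdiff_eq_empty_iff_subset] at h10
    exact h10
  obtain ⟨x, hx, hxO⟩ : ∃ x ∈ fixF g, x ∉ O := by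
    apply Finset.exists_mem_notMem_of_card_lt_card
    rw [card_octad hO]
    omega
  obtain ⟨P, hPO, hP⟩ := Finset.exists_subset_card_eq (show 6 ≤ O.card by rw [card_octad hO]; norm_num)
  exact hne (eq_one_of_fixes hg hO hPO hP (fun q hq => mem_fixF.mp (hOfix (hPO hq))) hxO
    (mem_fixF.mp hx))

theorem card_fix_modEq {g : Equiv.Perm GolayPt} (p : ℕ) [hp : Fact p.Prime]
    (hgp : g ^ p = 1) : 24 ≡ (fixF g).card [MOD p] := by
  have h := card_modEq_fix g p hgp Finset.univ (fun x _ => Finset.mem_univ _)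
  rw [Finset.univ_inter] at h
  have : (Finset.univ : Finset GolayPt).card = 24 := by decide
  rwa [this] at h

theorem card_fix_five {g : Equiv.Perm GolayPt} (hg : g ∈ M24) (hgp : g ^ 5 = 1) (hne : g ≠ 1) :
    (fixF g).card = 4 := by
  haveI : Fact (Nat.Prime 5) := ⟨by norm_num⟩
  have h1 := card_fix_le hg 5 le_rfl hgp hne
  have h2 := card_fix_modEq 5 hgp
  unfold Nat.ModEq at h2
  omega

theorem card_fix_seven {g : Equiv.Perm GolayPt} (hg : g ∈ M24) (hgp : g ^ 7 = 1) (hne : g ≠ 1) :
    (fixF g).card = 3 := by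
  haveI : Fact (Nat.Prime 7) := ⟨by norm_num⟩
  have h1 := card_fix_le hg 7 (by norm_num) hgp hne
  have h2 := card_fix_modEq 7 hgp
  unfold Nat.ModEq at h2
  omega

theorem card_fix_eleven {g : Equiv.Perm GolayPt} (hg : g ∈ M24) (hgp : g ^ 11 = 1) (hne : g ≠ 1) :
    (fixF g).card = 2 := by
  haveI : Fact (Nat.Prime 11) := ⟨by norm_num⟩
  have h1 := card_fix_le hg 11 (by norm_num) hgp hne
  have h2 := card_fix_modEq 11 hgp
  unfold Nat.ModEq at h2
  omega

end Cfsg.Agent.Lib.Helper6.M24Idx
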