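import Cfsg.Agent.Lib.Helper6.M24Idx.Facts1

set_option autoImplicit false
set_option linter.unusedSectionVars false

/-! # Multiple transitivity of the group of the length-24 code, for lists of points -/

namespace Cfsg.Agent.Lib.Helper6.M24Idx

open Cfsg
open Cfsg.Agent.Lib.Helper9.M24 (image_mem_octads eq_one_of_fixes exists_map_base5 base5 card_M24)

open scoped Pointwise

theorem card_pts : Fintype.card GolayPt = 24 := by decide

theorem exists_not_mem_list (l : List GolayPt) (h : l.length < 24) : ∃ e, e ∉ l := by
  by_contra hcon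
  push Not at hcon
  have h1 : (Finset.univ : Finset GolayPt) ⊆ l.toFinset := fun x _ => List.mem_toFinset.mpr (hcon x)
  have h2 := Finset.card_le_card h1
  have h3 := List.toFinset_card_le l
  rw [Finset.card_univ, card_pts] at h2
  omega

/-- transitivity on lists of five distinct points -/
theorem trans_list5 (l l' : List GolayPt) (hl : l.Nodup) (hl' : l'.Nodup) (h5 : l.length = 5)
    (h5' : l'.length = 5) : ∃ g ∈ M24, l.map g = l' := by
  have hinj : ∀ (m : List GolayPt) (hm : m.Nodup) (h : m.length = 5),
      Function.Injective (fun i : Fin 5 => m.get ⟨i.1, by rw [h]; exact i.2⟩) := by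
    intro m hm h i j hij
    have := (List.Nodup.get_inj_iff hm).mp hij
    exact Fin.ext (by simpa using this)
  obtain ⟨g1, hg1, H1⟩ := exists_map_base5 _ (hinj l hl h5)
  obtain ⟨g2, hg2, H2⟩ := exists_map_base5 _ (hinj l' hl' h5')
  refine ⟨g2 * g1⁻¹, Subgroup.mul_mem _ hg2 (Subgroup.inv_mem _ hg1), ?_⟩
  apply List.ext_get
  · rw [List.length_map, h5, h5']
  · intro n h1 h2
    rw [List.length_map, h5] at h1
    rw [List.get_eq_getElem, List.getElem_map]
    have e1 := H1 ⟨n, h1⟩
    have e2 := H2 ⟨n, h1⟩
    simp only [List.get_eq_getElem] at e1 e2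
    rw [← e1, List.get_eq_getElem, ← e2]
    simp

/-- transitivity on lists of at most five distinct points -/
theorem trans_list (l l' : List GolayPt) (hl : l.Nodup) (hl' : l'.Nodup) (hlen : l.length = l'.length)
    (h5 : l.length ≤ 5) : ∃ g ∈ M24, l.map g = l' := by
  obtain ⟨n, hn⟩ : ∃ n, n = 5 - l.length := ⟨_, rfl⟩
  induction n generalizing l l' with
  | zero => exact trans_list5 l l' hl hl' (by omega) (by omega)
  | succ n ih =>
    obtain ⟨e, he⟩ := exists_not_mem_list l (by omega)
    obtain ⟨e', he'⟩ := exists_not_mem_list l' (by omega)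
    obtain ⟨g, hg, hmap⟩ := ih (l ++ [e]) (l' ++ [e'])
      (List.Nodup.append hl (List.nodup_singleton e) (by
        intro x hx hx'
        rw [List.mem_singleton] at hx'
        exact he (hx' ▸ hx)))
      (List.Nodup.append hl' (List.nodup_singleton e') (by
        intro x hx hx'
        rw [List.mem_singleton] at hx'
        exact he' (hx' ▸ hx)))
      (by simp [hlen]) (by simp; omega) (by simp; omega)
    refine ⟨g, hg, ?_⟩
    rw [List.map_append] at hmap
    exact (List.append_inj hmap (by rw [List.length_map, hlen])).1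

/-- the group is transitive on points -/
theorem trans_pts (a b : GolayPt) : ∃ g ∈ M24, g a = b := by
  obtain ⟨g, hg, h⟩ := trans_list [a] [b] (by simp) (by simp) rfl (by simp)
  exact ⟨g, hg, by simpa using h⟩

end Cfsg.Agent.Lib.Helper6.M24Idx
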