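import Cfsg.Agent.Lib.Helper6.M24Idx.Facts2
import Cfsg.Agent.Lib.Helper6.M24Syl3
import Cfsg.Agent.Lib.Helper9.M24E
import Cfsg.Agent.S0367

set_option autoImplicit false
set_option linter.unusedSectionVars false

/-! # The pointwise stabilizer of an octad and subgroups containing a Sylow 2-subgroup -/

namespace Cfsg.Agent.Lib.Helper6.M24Idx

open Cfsg
open Cfsg.Agent.Lib.Helper9.M24 (image_mem_octads eq_one_of_fixes card_M24 natOfPt tget baseOctad
  baseOctad_mem)
open Cfsg.Agent.Lib.Helper6.M24Syl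

open scoped Pointwise

def labQ : List ℕ := [0, 1, 2, 3, 4, 5, 4, 4, 4, 4, 4, 4, 4, 4, 14, 4, 4, 17, 4, 4, 4, 4, 4, 23]

def twQ : List (List ℕ) := [[], [], [], [], [], [], [0], [1], [2], [3], [0, 1, 3], [1, 3], [0, 3],
  [1, 2, 3], [], [1, 2], [0, 2, 3], [], [0, 1, 2], [0, 1, 2, 3], [0, 2], [2, 3], [0, 1], []]

theorem rel_Q (x y : GolayPt) :
    Rel (C gen 0 4) x y ↔ labQ.getD (natOfPt x) 0 = labQ.getD (natOfPt y) 0 :=
  rel_iff_of_cert 0 4 labQ twQ (by decide +kernel) (by decide +kernel) x y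

theorem labQ_out : ∀ x : GolayPt, x ∉ baseOctad → labQ.getD (natOfPt x) 0 = 4 := by decide

theorem lab0_in : ∀ x : GolayPt, x ∈ baseOctad → lab0L.getD (natOfPt x) 0 = 0 := by decide

theorem Q_fix_aux : ∀ x : GolayPt, x ∈ baseOctad → ∀ k < 4, 0 ≤ k →
    tget (T k) (natOfPt x) = natOfPt x := by decide +kernel

/-- the elements of the explicit group of order 16 fix the base octad pointwise -/
theorem Q_fix (s : Equiv.Perm GolayPt) (hs : s ∈ C gen 0 4) (x : GolayPt) (hx : x ∈ baseOctad) :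
    s x = x := C_fix 0 4 x (Q_fix_aux x hx) s hs

/-- the explicit group of order 16 is transitive outside the base octad -/
theorem Q_trans (u v : GolayPt) (hu : u ∉ baseOctad) (hv : v ∉ baseOctad) :
    ∃ s ∈ C gen 0 4, s u = v :=
  (rel_Q u v).mpr (by rw [labQ_out u hu, labQ_out v hv])

/-- the explicit Sylow subgroup is transitive on the base octad -/
theorem S0_trans (x y : GolayPt) (hx : x ∈ baseOctad) (hy : y ∈ baseOctad) :
    ∃ s ∈ C gen 0 10, s x = y :=
  (rel_S0 x y).mpr (by rw [lab0_in x hx, lab0_in y hy])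

/-- **transitivity of the pointwise stabilizer of an octad on the complement** -/
theorem octad_fixer_trans {O : Finset GolayPt} (hO : O ∈ octads) {u v : GolayPt} (hu : u ∉ O)
    (hv : v ∉ O) : ∃ q ∈ M24, (∀ x ∈ O, q x = x) ∧ q u = v := by
  obtain ⟨γ, hγ⟩ := Cfsg.Agent.S0367.result baseOctad O baseOctad_mem hO
  have hγ' : baseOctad.image (γ : Equiv.Perm GolayPt) = O := hγ
  have hmem : ∀ z, z ∈ O ↔ (γ : Equiv.Perm GolayPt)⁻¹ z ∈ baseOctad := by
    intro z
    rw [← hγ', Finset.mem_image]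
    constructor
    · rintro ⟨w, hw, rfl⟩
      simpa using hw
    · intro h
      exact ⟨_, h, by simp⟩
  obtain ⟨s, hs, hsu⟩ := Q_trans ((γ : Equiv.Perm GolayPt)⁻¹ u) ((γ : Equiv.Perm GolayPt)⁻¹ v)
    (fun h => hu ((hmem u).mpr h)) (fun h => hv ((hmem v).mpr h))
  refine ⟨γ * s * (γ : Equiv.Perm GolayPt)⁻¹, ?_, ?_, ?_⟩
  · exact Subgroup.mul_mem _ (Subgroup.mul_mem _ γ.2 (C_le_M24 0 4 hs)) (Subgroup.inv_mem _ γ.2)
  · intro x hx
    have := Q_fix s hs _ ((hmem x).mp hx)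
    rw [Equiv.Perm.mul_apply, Equiv.Perm.mul_apply, this, perm_apply_inv]
  · rw [Equiv.Perm.mul_apply, Equiv.Perm.mul_apply, hsu, perm_apply_inv]

/-- **subgroups containing a Sylow 2-subgroup** contain the pointwise stabilizer of an octad
(at least a subgroup of it that is transitive on the complement) and are transitive on that
octad -/
theorem sylow_pkg (K : Subgroup (Equiv.Perm GolayPt)) (hK : K ≤ M24) (h2 : 2 ^ 10 ∣ Nat.card K) :
    ∃ O ∈ octads, (∀ u, u ∉ O → ∀ v, v ∉ O → ∃ q ∈ K, (∀ x ∈ O, q x = x) ∧ q u = v) ∧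
      (∀ x ∈ O, ∀ y ∈ O, ∃ s ∈ K, s x = y) := by
  haveI : Fact (Nat.Prime 2) := ⟨Nat.prime_two⟩
  -- a Sylow 2-subgroup of `K`
  obtain ⟨P⟩ : Nonempty (Sylow 2 K) := inferInstance
  have hP1 : 2 ^ 10 ∣ Nat.card (P : Subgroup K) := by
    rw [Sylow.card_eq_multiplicity]
    apply pow_dvd_pow
    have hpos : Nat.card K ≠ 0 := Nat.card_pos.ne'
    exact (Nat.Prime.pow_dvd_iff_le_factorization Nat.prime_two hpos).mp h2
  set P' : Subgroup (Equiv.Perm GolayPt) := (P : Subgroup K).map K.subtype with hP'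
  have hP'K : P' ≤ K := by
    rintro _ ⟨x, _, rfl⟩
    exact x.2
  have hP'card : Nat.card P' = Nat.card (P : Subgroup K) :=
    Nat.card_congr ((P : Subgroup K).equivMapOfInjective K.subtype K.subtype_injective).symm.toEquiv
  have hP'2 : IsPGroup 2 P' := P.2.map K.subtype
  have hP'le : Nat.card P' ≤ 1024 := card_two_group_le (hP'K.trans hK) hP'2
  have hP'1024 : Nat.card P' = 1024 := by
    rw [hP'card]
    rw [hP'card] at hP'le
    exact le_antisymm hP'le (Nat.le_of_dvd Nat.card_pos hP1)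
  -- Sylow subgroups of the big group
  have hcard0 : Nat.card ((C gen 0 10).subgroupOf M24) = 2 ^ (Nat.card M24).factorization 2 := by
    rw [factorization_M24, Nat.card_congr (Subgroup.subgroupOfEquivOfLe (C_le_M24 0 10)).toEquiv,
      card_S0]
    norm_num
  have hcard1 : Nat.card (P'.subgroupOf M24) = 2 ^ (Nat.card M24).factorization 2 := by
    rw [factorization_M24, Nat.card_congr (Subgroup.subgroupOfEquivOfLe (hP'K.trans hK)).toEquiv,
      hP'1024]
    norm_num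
  obtain ⟨P₀, hP₀⟩ : ∃ P₀ : Sylow 2 M24, (P₀ : Subgroup M24) = (C gen 0 10).subgroupOf M24 :=
    ⟨Sylow.ofCard _ hcard0, rfl⟩
  obtain ⟨P₁, hP₁⟩ : ∃ P₁ : Sylow 2 M24, (P₁ : Subgroup M24) = P'.subgroupOf M24 :=
    ⟨Sylow.ofCard _ hcard1, rfl⟩
  obtain ⟨h, hh⟩ := MulAction.exists_smul_eq M24 P₀ P₁
  -- conjugates of the elements of the explicit Sylow subgroup lie in `K`
  have hconj : ∀ s ∈ C gen 0 10, (h : Equiv.Perm GolayPt) * s * (h : Equiv.Perm GolayPt)⁻¹ ∈ K := by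
    intro s hs
    have h1 : (⟨s, C_le_M24 0 10 hs⟩ : M24) ∈ (P₀ : Subgroup M24) := by
      rw [hP₀, Subgroup.mem_subgroupOf]
      exact hs
    have h2 : h * ⟨s, C_le_M24 0 10 hs⟩ * h⁻¹ ∈ ((h • P₀ : Sylow 2 M24) : Subgroup M24) := by
      rw [Sylow.coe_subgroup_smul, Subgroup.mem_smul_pointwise_iff_exists]
      exact ⟨_, h1, rfl⟩
    rw [hh, hP₁, Subgroup.mem_subgroupOf] at h2
    exact hP'K h2
  set γ : Equiv.Perm GolayPt := (h : Equiv.Perm GolayPt) with hγdef
  have hγM : γ ∈ M24 := h.2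
  refine ⟨baseOctad.image γ, image_mem_octads hγM baseOctad_mem, ?_, ?_⟩
  · intro u hu v hv
    have hu' : γ⁻¹ u ∉ baseOctad := by
      intro hcon
      apply hu
      rw [Finset.mem_image]
      exact ⟨_, hcon, by simp⟩
    have hv' : γ⁻¹ v ∉ baseOctad := by
      intro hcon
      apply hv
      rw [Finset.mem_image]
      exact ⟨_, hcon, by simp⟩
    obtain ⟨s, hs, hsu⟩ := Q_trans _ _ hu' hv'
    refine ⟨γ * s * γ⁻¹, hconj s (C_mono gen le_rfl (by norm_num) hs), ?_, ?_⟩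
    · intro x hx
      obtain ⟨w, hw, rfl⟩ := Finset.mem_image.mp hx
      have := Q_fix s hs w hw
      rw [Equiv.Perm.mul_apply, Equiv.Perm.mul_apply, perm_inv_apply, this]
    · rw [Equiv.Perm.mul_apply, Equiv.Perm.mul_apply, hsu, perm_apply_inv]
  · intro x hx y hy
    obtain ⟨w, hw, rfl⟩ := Finset.mem_image.mp hx
    obtain ⟨z, hz, rfl⟩ := Finset.mem_image.mp hy
    obtain ⟨s, hs, hsw⟩ := S0_trans w z hw hz
    exact ⟨γ * s * γ⁻¹, hconj s hs, by
      rw [Equiv.Perm.mul_apply, Equiv.Perm.mul_apply, perm_inv_apply, hsw]⟩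

end Cfsg.Agent.Lib.Helper6.M24Idx
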