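import Cfsg.Agent.Lib.Helper6.M24Idx.Facts3
import Cfsg.Agent.Lib.Helper9.M24Trans
import Cfsg.Agent.S0360

set_option autoImplicit false
set_option linter.unusedSectionVars false

/-! # Orders of stabilizers in the group of the length-24 code -/

namespace Cfsg.Agent.Lib.Helper6.M24Idx

open Cfsg
open Cfsg.Agent.Lib.Helper9.M24 (image_mem_octads card_M24 ncard_sextets exists_smul_refSext sextOf
  sextets_smul)

open scoped Pointwise

/-- the cardinality of a stabilizer inside a subgroup, computed in the big group -/
theorem card_stabilizer_sub {G Y : Type*} [Group G] [MulAction G Y] (K : Subgroup G) (y : Y) :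
    Nat.card (MulAction.stabilizer K y) = Nat.card (K ⊓ MulAction.stabilizer G y : Subgroup G) := by
  have h2 : MulAction.stabilizer K y = (K ⊓ MulAction.stabilizer G y).subgroupOf K := by
    ext k
    rw [Subgroup.mem_subgroupOf, Subgroup.mem_inf, MulAction.mem_stabilizer_iff,
      MulAction.mem_stabilizer_iff]
    constructor
    · intro h
      exact ⟨k.2, h⟩
    · intro h
      exact h.2
  rw [h2]
  exact Nat.card_congr (Subgroup.subgroupOfEquivOfLe inf_le_left).toEquiv

/-- a lower bound for an orbit gives an upper bound for the stabilizer -/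
theorem card_mul_stab_le {G Y : Type*} [Group G] [Finite G] [MulAction G Y] (K : Subgroup G) (y : Y)
    (F : Finset Y) (hF : ∀ z ∈ F, ∃ k ∈ K, k • y = z) :
    F.card * Nat.card (K ⊓ MulAction.stabilizer G y : Subgroup G) ≤ Nat.card K := by
  rw [card_eq_orbit_mul K y]
  apply Nat.mul_le_mul_right
  have hfin : (MulAction.orbit K y).Finite := by
    have : MulAction.orbit K y = Set.range (fun k : K => k • y) := rfl
    rw [this]
    exact Set.finite_range _
  have hsub : (F : Set Y) ⊆ MulAction.orbit K y := by
    intro z hz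
    obtain ⟨k, hk, rfl⟩ := hF z hz
    exact ⟨⟨k, hk⟩, rfl⟩
  have := Set.ncard_le_ncard hsub hfin
  rwa [Set.ncard_coe_finset] at this

theorem orb_M24 (a : GolayPt) : orb M24 a = Finset.univ := by
  ext y
  simp only [Finset.mem_univ, iff_true]
  obtain ⟨g, hg, h⟩ := trans_pts a y
  exact mem_orb.mpr ⟨g, hg, h⟩

theorem card_stb_M24 (a : GolayPt) : Nat.card (stb M24 a) = 10200960 := by
  have h := card_eq_orb_mul_stb M24 a
  rw [orb_M24, Finset.card_univ, card_pts, card_M24] at h
  omega

/-- the order of the stabilizer of an octad -/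
theorem card_stab_octad {O : Finset GolayPt} (hO : O ∈ octads) :
    Nat.card (M24 ⊓ MulAction.stabilizer (Equiv.Perm GolayPt) O : Subgroup (Equiv.Perm GolayPt)) =
      322560 := by
  have h := card_eq_orbit_mul M24 O
  have horb : MulAction.orbit M24 O = octads := by
    ext P
    constructor
    · rintro ⟨g, rfl⟩
      exact image_mem_octads g.2 hO
    · intro hP
      obtain ⟨g, hg⟩ := Cfsg.Agent.S0367.result O P hO hP
      exact ⟨g, hg⟩
  rw [horb, Cfsg.Agent.S0360.result, card_M24] at h
  omega

/-- the order of the stabilizer of a pair of points -/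
theorem card_stab_pair {s : Finset GolayPt} (hs : s.card = 2) :
    Nat.card (M24 ⊓ MulAction.stabilizer (Equiv.Perm GolayPt) s : Subgroup (Equiv.Perm GolayPt)) ≤
      887040 := by
  have h := card_mul_stab_le M24 s (Finset.powersetCard 2 Finset.univ) (by
    intro t ht
    rw [Finset.mem_powersetCard] at ht
    obtain ⟨a, b, hab, rfl⟩ := Finset.card_eq_two.mp hs
    obtain ⟨c, d, hcd, rfl⟩ := Finset.card_eq_two.mp ht.2
    obtain ⟨g, hg, hmap⟩ := trans_list [a, b] [c, d] (by simp [hab]) (by simp [hcd]) rfl (by simp)
    simp only [List.map_cons, List.map_nil, List.cons.injEq, and_true] at hmap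
    refine ⟨g, hg, ?_⟩
    show Finset.image g {a, b} = {c, d}
    rw [Finset.image_insert, Finset.image_singleton, hmap.1, hmap.2])
  rw [Finset.card_powersetCard, Finset.card_univ, card_pts, card_M24] at h
  have : Nat.choose 24 2 = 276 := by decide
  rw [this] at h
  omega

/-- the order of the stabilizer of a point and a triple of other points -/
theorem card_stab_pt_triple (a : GolayPt) {W : Finset GolayPt} (hW : W.card = 3) (ha : a ∉ W) :
    Nat.card (stb M24 a ⊓ MulAction.stabilizer (Equiv.Perm GolayPt) W :
      Subgroup (Equiv.Perm GolayPt)) ≤ 5760 := by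
  have h := card_mul_stab_le (stb M24 a) W (Finset.powersetCard 3 (Finset.univ.erase a)) (by
    intro t ht
    rw [Finset.mem_powersetCard] at ht
    obtain ⟨b, c, d, hbc, hbd, hcd, rfl⟩ := Finset.card_eq_three.mp hW
    obtain ⟨b', c', d', hbc', hbd', hcd', rfl⟩ := Finset.card_eq_three.mp ht.2
    simp only [Finset.mem_insert, Finset.mem_singleton, not_or] at ha
    have ha' : a ∉ ({b', c', d'} : Finset GolayPt) := fun h => (Finset.mem_erase.mp (ht.1 h)).1 rfl
    simp only [Finset.mem_insert, Finset.mem_singleton, not_or] at ha'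
    obtain ⟨g, hg, hmap⟩ := trans_list [a, b, c, d] [a, b', c', d']
      (by simp [ha.1, ha.2.1, ha.2.2, hbc, hbd, hcd])
      (by simp [ha'.1, ha'.2.1, ha'.2.2, hbc', hbd', hcd']) rfl (by simp)
    simp only [List.map_cons, List.map_nil, List.cons.injEq, and_true] at hmap
    refine ⟨g, mem_stb.mpr ⟨hg, hmap.1⟩, ?_⟩
    show Finset.image g {b, c, d} = {b', c', d'}
    rw [Finset.image_insert, Finset.image_insert, Finset.image_singleton, hmap.2.1, hmap.2.2.1,
      hmap.2.2.2])
  rw [Finset.card_powersetCard, Finset.card_erase_of_mem (Finset.mem_univ a), Finset.card_univ,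
    card_pts, card_stb_M24] at h
  have : Nat.choose 23 3 = 1771 := by decide
  rw [this] at h
  omega

/-- the order of the stabilizer of a sextet -/
theorem card_stab_sextet {S : Finset (Finset GolayPt)} (hS : S ∈ sextets) :
    Nat.card (M24 ⊓ MulAction.stabilizer (Equiv.Perm GolayPt) S : Subgroup (Equiv.Perm GolayPt)) =
      138240 := by
  have h := card_eq_orbit_mul M24 S
  have horb : MulAction.orbit M24 S = sextets := by
    ext P
    constructor
    · rintro ⟨g, rfl⟩
      exact sextets_smul g.2 hS
    · intro hP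
      obtain ⟨g1, hg1, h1⟩ := exists_smul_refSext hS
      obtain ⟨g2, hg2, h2⟩ := exists_smul_refSext hP
      refine ⟨⟨g2 * g1⁻¹, Subgroup.mul_mem _ hg2 (Subgroup.inv_mem _ hg1)⟩, ?_⟩
      show (g2 * g1⁻¹) • S = P
      rw [← h1, ← h2, mul_smul, inv_smul_smul]
  rw [horb, ncard_sextets, card_M24] at h
  omega

end Cfsg.Agent.Lib.Helper6.M24Idx
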