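import Cfsg.Agent.Lib.Helper6.M24Idx.Pt3
import Cfsg.Prelude.Def_Spor_Mathieu

set_option autoImplicit false
set_option linter.unusedSectionVars false

/-! # Subgroups of index 22 of `M22` are point stabilizers -/

namespace Cfsg.Agent.Lib.Helper6.M24Idx

open Cfsg
open Cfsg.Agent.Lib.Helper9.M24 (image_mem_octads eq_one_of_fixes)

open scoped Pointwise

section generic

variable {X : Type*} [Fintype X] [DecidableEq X]

/-- restriction of a group of permutations to an invariant finset -/
def restrictHom (K : Subgroup (Equiv.Perm X)) (R : Finset X) (hR : Inv K R) :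
    K →* Equiv.Perm {x // x ∈ R} where
  toFun k := (k : Equiv.Perm X).subtypePerm (fun x => hR.mem_iff k.2 x)
  map_one' := by
    ext x
    rfl
  map_mul' k l := by
    ext x
    rfl

theorem restrictHom_apply (K : Subgroup (Equiv.Perm X)) (R : Finset X) (hR : Inv K R) (k : K)
    (x : {x // x ∈ R}) : ((restrictHom K R hR k) x : X) = (k : Equiv.Perm X) x := rfl

/-- the pointwise fixer of an invariant finset has index dividing the factorial of its size -/
theorem exists_fixer (K : Subgroup (Equiv.Perm X)) (R : Finset X) (hR : Inv K R) :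
    ∃ N : Subgroup (Equiv.Perm X), N ≤ K ∧ (∀ k ∈ N, ∀ r ∈ R, k r = r) ∧
      Nat.card K ∣ Nat.card N * (R.card).factorial := by
  refine ⟨(restrictHom K R hR).ker.map K.subtype, ?_, ?_, ?_⟩
  · rintro _ ⟨k, _, rfl⟩
    exact k.2
  · rintro _ ⟨k, hk, rfl⟩ r hr
    rw [SetLike.mem_coe, MonoidHom.mem_ker] at hk
    have := restrictHom_apply K R hR k ⟨r, hr⟩
    rw [hk] at this
    exact this.symm
  · rw [Nat.card_congr (Subgroup.equivMapOfInjective _ K.subtype
      K.subtype_injective).symm.toEquiv]
    have h1 := Subgroup.card_mul_index (restrictHom K R hR).ker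
    rw [Subgroup.index_ker] at h1
    rw [← h1]
    apply Nat.mul_dvd_mul_left
    have h2 := Subgroup.card_subgroup_dvd_card (restrictHom K R hR).range
    rw [Nat.card_eq_fintype_card (α := Equiv.Perm {x // x ∈ R}), Fintype.card_perm,
      Fintype.card_coe] at h2
    exact h2

end generic

/-- an involution of `M24` with at least nine fixed points is trivial -/
theorem invol_fix_nine {t : Equiv.Perm GolayPt} (ht : t ∈ M24) (h2 : t ^ 2 = 1)
    (h9 : 9 ≤ (fixF t).card) : t = 1 := by
  obtain ⟨R5, hR5, hR5c⟩ := Finset.exists_subset_card_eq (show 5 ≤ (fixF t).card by omega)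
  obtain ⟨O, hO, hRO⟩ := exists_octad hR5c
  have hfixR : ∀ r ∈ R5, t r = r := fun r hr => mem_fixF.mp (hR5 hr)
  have hO' : O.image t ∈ octads := image_mem_octads ht hO
  have hRO' : R5 ⊆ O.image t := by
    intro r hr
    rw [Finset.mem_image]
    exact ⟨r, hRO hr, hfixR r hr⟩
  have hOO : O = O.image t := octad_eq_of_five hO hO' (by omega) hRO hRO'
  have hinv : ∀ x ∈ O, t x ∈ O := by
    intro x hx
    rw [hOO]
    exact Finset.mem_image_of_mem _ hx
  have : Fact (Nat.Prime 2) := ⟨Nat.prime_two⟩
  have hmod := card_modEq_fix t 2 h2 O hinv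
  rw [card_octad hO] at hmod
  have h5 : 5 ≤ (O ∩ fixF t).card := by
    rw [← hR5c]
    apply Finset.card_le_card
    intro r hr
    exact Finset.mem_inter.mpr ⟨hRO hr, hR5 hr⟩
  have h6 : 6 ≤ (O ∩ fixF t).card := by
    unfold Nat.ModEq at hmod
    omega
  obtain ⟨P, hP, hPc⟩ := Finset.exists_subset_card_eq h6
  obtain ⟨x, hx, hxO⟩ : ∃ x ∈ fixF t, x ∉ O := by
    apply Finset.exists_mem_notMem_of_card_lt_card
    rw [card_octad hO]
    omega
  exact eq_one_of_fixes ht hO (fun p hp => (Finset.mem_inter.mp (hP hp)).1) hPc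
    (fun p hp => mem_fixF.mp (Finset.mem_inter.mp (hP hp)).2) hxO (mem_fixF.mp hx)

/-- **subgroups of order 20160 of a two-point stabilizer** fix a third point -/
theorem three_pt_case (K : Subgroup (Equiv.Perm GolayPt)) (hK : K ≤ M24) {a b : GolayPt}
    (hab : a ≠ b) (ha : ∀ k ∈ K, k a = a) (hb : ∀ k ∈ K, k b = b)
    (hcard : Nat.card K = 20160) : ∃ c, c ≠ a ∧ c ≠ b ∧ ∀ k ∈ K, k c = c := by
  have : Fact (Nat.Prime 7) := ⟨by norm_num⟩
  have : Fact (Nat.Prime 5) := ⟨by norm_num⟩
  have : Fact (Nat.Prime 2) := ⟨Nat.prime_two⟩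
  obtain ⟨g7, hg7K, hg7, hg7ne⟩ := exists_prime_order K 7 (by rw [hcard]; norm_num)
  obtain ⟨g5, hg5K, hg5, hg5ne⟩ := exists_prime_order K 5 (by rw [hcard]; norm_num)
  have hf7 := card_fix_seven (hK hg7K) hg7 hg7ne
  have hf5 := card_fix_five (hK hg5K) hg5 hg5ne
  -- the third fixed point of `g7`
  have ha7 : a ∈ fixF g7 := mem_fixF.mpr (ha g7 hg7K)
  have hb7 : b ∈ fixF g7 := mem_fixF.mpr (hb g7 hg7K)
  have ha5 : a ∈ fixF g5 := mem_fixF.mpr (ha g5 hg5K)
  have hb5 : b ∈ fixF g5 := mem_fixF.mpr (hb g5 hg5K)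
  have hb7' : b ∈ (fixF g7).erase a := Finset.mem_erase.mpr ⟨Ne.symm hab, hb7⟩
  have hb5' : b ∈ (fixF g5).erase a := Finset.mem_erase.mpr ⟨Ne.symm hab, hb5⟩
  have hc1 : (((fixF g7).erase a).erase b).card = 1 := by
    rw [Finset.card_erase_of_mem hb7', Finset.card_erase_of_mem ha7, hf7]
  have hc2 : (((fixF g5).erase a).erase b).card = 2 := by
    rw [Finset.card_erase_of_mem hb5', Finset.card_erase_of_mem ha5, hf5]
  obtain ⟨c0, hc0⟩ := Finset.card_eq_one.mp hc1
  have hc0mem : c0 ∈ ((fixF g7).erase a).erase b := by rw [hc0]; exact Finset.mem_singleton_self _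
  have hc0b : c0 ≠ b := (Finset.mem_erase.mp hc0mem).1
  have hc0a : c0 ≠ a := (Finset.mem_erase.mp (Finset.mem_erase.mp hc0mem).2).1
  have hc0fix : g7 c0 = c0 := mem_fixF.mp (Finset.mem_erase.mp (Finset.mem_erase.mp hc0mem).2).2
  -- congruences for invariant sets avoiding `a`, `b`
  have hmod7 : ∀ S : Finset GolayPt, Inv K S → a ∉ S → b ∉ S →
      S.card % 7 = (S ∩ {c0}).card % 7 := by
    intro S hS haS hbS
    have h := card_modEq_fix g7 7 hg7 S (fun x hx => hS g7 hg7K x hx)
    have heq : S ∩ fixF g7 = S ∩ {c0} := by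
      ext y
      rw [Finset.mem_inter, Finset.mem_inter, ← hc0, Finset.mem_erase, Finset.mem_erase]
      constructor
      · rintro ⟨h1, h2⟩
        exact ⟨h1, fun h => hbS (h ▸ h1), fun h => haS (h ▸ h1), h2⟩
      · rintro ⟨h1, _, _, h2⟩
        exact ⟨h1, h2⟩
    rw [heq] at h
    exact h
  have hmod5 : ∀ S : Finset GolayPt, Inv K S → a ∉ S → b ∉ S → S.card % 5 ≤ 2 := by
    intro S hS haS hbS
    have h := card_modEq_fix g5 5 hg5 S (fun x hx => hS g5 hg5K x hx)
    have hle : (S ∩ fixF g5).card ≤ 2 := by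
      rw [← hc2]
      apply Finset.card_le_card
      intro y hy
      rw [Finset.mem_inter] at hy
      rw [Finset.mem_erase, Finset.mem_erase]
      exact ⟨fun h => hbS (h ▸ hy.1), fun h => haS (h ▸ hy.1), hy.2⟩
    unfold Nat.ModEq at h
    omega
  -- the orbit of `c0`
  have hSinv : Inv K (orb K c0) := inv_orb K c0
  have haS : a ∉ orb K c0 := by
    intro hcon
    obtain ⟨k, hk, hkc⟩ := mem_orb.mp hcon
    exact hc0a (k.injective (hkc.trans (ha k hk).symm))
  have hbS : b ∉ orb K c0 := by
    intro hcon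
    obtain ⟨k, hk, hkc⟩ := mem_orb.mp hcon
    exact hc0b (k.injective (hkc.trans (hb k hk).symm))
  have hS7 := hmod7 _ hSinv haS hbS
  have hS5 := hmod5 _ hSinv haS hbS
  have hSc0 : orb K c0 ∩ {c0} = {c0} := by
    rw [Finset.inter_eq_right, Finset.singleton_subset_iff]
    exact self_mem_orb K c0
  rw [hSc0, Finset.card_singleton] at hS7
  have hSdvd := card_orb_dvd K c0
  rw [hcard] at hSdvd
  -- the complement of the orbit in the 22 points
  have hab' : a ∉ ({b} : Finset GolayPt) := by
    rw [Finset.mem_singleton]; exact hab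
  have hdisj : Disjoint ({a, b} : Finset GolayPt) (orb K c0) := by
    rw [Finset.disjoint_left]
    intro y hy
    rw [Finset.mem_insert, Finset.mem_singleton] at hy
    rcases hy with rfl | rfl
    · exact haS
    · exact hbS
  have hle22 : (orb K c0).card ≤ 22 := by
    have h := Finset.card_le_univ (({a, b} : Finset GolayPt) ∪ orb K c0)
    rw [Finset.card_union_of_disjoint hdisj, Finset.card_insert_of_notMem hab',
      Finset.card_singleton, card_pts] at h
    omega
  have hcases : (orb K c0).card = 1 ∨ (orb K c0).card = 15 := by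
    generalize (orb K c0).card = n at *
    interval_cases n <;> omega
  rcases hcases with h1 | h15
  · refine ⟨c0, hc0a, hc0b, ?_⟩
    obtain ⟨z, hz⟩ := Finset.card_eq_one.mp h1
    have hz0 : c0 = z := by
      have := self_mem_orb K c0
      rw [hz, Finset.mem_singleton] at this
      exact this
    intro k hk
    have : k c0 ∈ orb K c0 := mem_orb.mpr ⟨k, hk, rfl⟩
    rw [hz, Finset.mem_singleton] at this
    rw [this, hz0]
  · exfalso
    -- the remaining seven points
    have hInvab : Inv K ({a, b} : Finset GolayPt) := by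
      intro k hk y hy
      rw [Finset.mem_insert, Finset.mem_singleton] at hy ⊢
      rcases hy with rfl | rfl
      · left; exact ha k hk
      · right; exact hb k hk
    have hRinv : Inv K (({a, b} : Finset GolayPt) ∪ orb K c0)ᶜ := (hInvab.union hSinv).compl
    have hRc : (({a, b} : Finset GolayPt) ∪ orb K c0)ᶜ.card = 7 := by
      rw [Finset.card_compl, Finset.card_union_of_disjoint hdisj, Finset.card_insert_of_notMem hab',
        Finset.card_singleton, card_pts, h15]
    obtain ⟨N, hNK, hNfix, hNdvd⟩ := exists_fixer K _ hRinv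
    rw [hRc, hcard] at hNdvd
    have h2N : 2 ∣ Nat.card N := by
      have : Nat.factorial 7 = 5040 := by decide
      rw [this] at hNdvd
      obtain ⟨m, hm⟩ := hNdvd
      omega
    obtain ⟨t, htN, ht2, htne⟩ := exists_prime_order N 2 h2N
    apply htne
    apply invol_fix_nine (hK (hNK htN)) ht2
    have hsub : (({a, b} : Finset GolayPt) ∪ orb K c0)ᶜ ∪ {a, b} ⊆ fixF t := by
      intro y hy
      rw [mem_fixF]
      rw [Finset.mem_union] at hy
      rcases hy with hy | hy
      · exact hNfix t htN y hy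
      · rw [Finset.mem_insert, Finset.mem_singleton] at hy
        rcases hy with rfl | rfl
        · exact ha t (hNK htN)
        · exact hb t (hNK htN)
    have hd2 : Disjoint (({a, b} : Finset GolayPt) ∪ orb K c0)ᶜ ({a, b} : Finset GolayPt) := by
      rw [Finset.disjoint_left]
      intro y hy hy2
      rw [Finset.mem_compl] at hy
      exact hy (Finset.mem_union_left _ hy2)
    have := Finset.card_le_card hsub
    rw [Finset.card_union_of_disjoint hd2, hRc, Finset.card_insert_of_notMem hab',
      Finset.card_singleton] at this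
    exact this

end Cfsg.Agent.Lib.Helper6.M24Idx
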