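import Cfsg.Agent.Lib.Helper6.M24Idx.M22a

set_option autoImplicit false
set_option linter.unusedSectionVars false

/-! # Subgroups of index 22 of `M22` are point stabilizers: the statement for subgroups of `M22` -/

namespace Cfsg.Agent.Lib.Helper6.M24Idx

open Cfsg
open Cfsg.Agent.Lib.Helper9.M24 (image_mem_octads)

open scoped Pointwise

theorem M23_eq_stb : Cfsg.Spor.M23 = stb M24 none := rfl

theorem M22_eq_stb : Cfsg.Spor.M22 = stb (stb M24 none) (some 0) := rfl

theorem mem_M22 {g : Equiv.Perm GolayPt} :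
    g ∈ Cfsg.Spor.M22 ↔ g ∈ M24 ∧ g none = none ∧ g (some 0) = some 0 := by
  rw [M22_eq_stb, mem_stb, mem_stb, and_assoc]

theorem M22_le : Cfsg.Spor.M22 ≤ M24 := fun _ hg => (mem_M22.mp hg).1

/-- the orbits of a point stabilizer -/
theorem orb_stb2 {a b : GolayPt} (hab : a ≠ b) : orb (stb M24 a) b = Finset.univ.erase a := by
  ext z
  rw [mem_orb, Finset.mem_erase]
  constructor
  · rintro ⟨k, hk, rfl⟩
    refine ⟨fun h => ?_, Finset.mem_univ _⟩
    exact hab (k.injective ((mem_stb.mp hk).2.trans h.symm))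
  · rintro ⟨hz, _⟩
    obtain ⟨g, hg, hmap⟩ := trans_list [a, b] [a, z] (by simp [hab]) (by simp [Ne.symm hz]) rfl
      (by simp)
    simp only [List.map_cons, List.map_nil, List.cons.injEq, and_true] at hmap
    exact ⟨g, mem_stb.mpr ⟨hg, hmap.1⟩, hmap.2⟩

/-- the orbits of a two-point stabilizer -/
theorem orb_stb3 {a b c : GolayPt} (hab : a ≠ b) (hac : a ≠ c) (hbc : b ≠ c) :
    orb (stb (stb M24 a) b) c = (Finset.univ.erase a).erase b := by
  ext z
  rw [mem_orb, Finset.mem_erase, Finset.mem_erase]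
  constructor
  · rintro ⟨k, hk, rfl⟩
    obtain ⟨hk1, hkb⟩ := mem_stb.mp hk
    obtain ⟨_, hka⟩ := mem_stb.mp hk1
    exact ⟨fun h => hbc (k.injective (hkb.trans h.symm)),
      fun h => hac (k.injective (hka.trans h.symm)), Finset.mem_univ _⟩
  · rintro ⟨hzb, hza, _⟩
    obtain ⟨g, hg, hmap⟩ := trans_list [a, b, c] [a, b, z] (by simp [hab, hac, hbc])
      (by simp [hab, Ne.symm hza, Ne.symm hzb]) rfl (by simp)
    simp only [List.map_cons, List.map_nil, List.cons.injEq, and_true] at hmap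
    exact ⟨g, mem_stb.mpr ⟨mem_stb.mpr ⟨hg, hmap.1⟩, hmap.2.1⟩, hmap.2.2⟩

theorem card_stb2 {a b : GolayPt} (hab : a ≠ b) : Nat.card (stb (stb M24 a) b) = 443520 := by
  have h := card_eq_orb_mul_stb (stb M24 a) b
  rw [orb_stb2 hab, card_stb_M24, Finset.card_erase_of_mem (Finset.mem_univ _), Finset.card_univ,
    card_pts] at h
  omega

theorem card_stb3 {a b c : GolayPt} (hab : a ≠ b) (hac : a ≠ c) (hbc : b ≠ c) :
    Nat.card (stb (stb (stb M24 a) b) c) = 20160 := by
  have h := card_eq_orb_mul_stb (stb (stb M24 a) b) c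
  rw [orb_stb3 hab hac hbc, card_stb2 hab, Finset.card_erase_of_mem
    (Finset.mem_erase.mpr ⟨Ne.symm hab, Finset.mem_univ _⟩),
    Finset.card_erase_of_mem (Finset.mem_univ _), Finset.card_univ, card_pts] at h
  omega

theorem card_M22' : Nat.card ↥Cfsg.Spor.M22 = 443520 := by
  rw [M22_eq_stb]
  exact card_stb2 (by decide)

/-- `M22` is doubly transitive on the 22 points it moves -/
theorem M22_two_trans {c d c' d' : GolayPt} (hc : c ≠ none) (hc0 : c ≠ some 0) (hd : d ≠ none)
    (hd0 : d ≠ some 0) (hcd : c ≠ d) (hc' : c' ≠ none) (hc0' : c' ≠ some 0) (hd' : d' ≠ none)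
    (hd0' : d' ≠ some 0) (hcd' : c' ≠ d') : ∃ g ∈ Cfsg.Spor.M22, g c = c' ∧ g d = d' := by
  obtain ⟨g, hg, hmap⟩ := trans_list [none, some 0, c, d] [none, some 0, c', d']
    (by simp [Ne.symm hc, Ne.symm hc0, Ne.symm hd, Ne.symm hd0, hcd])
    (by simp [Ne.symm hc', Ne.symm hc0', Ne.symm hd', Ne.symm hd0', hcd']) rfl (by simp)
  simp only [List.map_cons, List.map_nil, List.cons.injEq, and_true] at hmap
  exact ⟨g, mem_M22.mpr ⟨hg, hmap.1, hmap.2.1⟩, hmap.2.2.1, hmap.2.2.2⟩

/-- `M22` is transitive on the 22 points it moves -/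
theorem M22_trans {c c' : GolayPt} (hc : c ≠ none) (hc0 : c ≠ some 0) (hc' : c' ≠ none)
    (hc0' : c' ≠ some 0) : ∃ g ∈ Cfsg.Spor.M22, g c = c' := by
  obtain ⟨g, hg, hmap⟩ := trans_list [none, some 0, c] [none, some 0, c']
    (by simp [Ne.symm hc, Ne.symm hc0])
    (by simp [Ne.symm hc', Ne.symm hc0']) rfl (by simp)
  simp only [List.map_cons, List.map_nil, List.cons.injEq, and_true] at hmap
  exact ⟨g, mem_M22.mpr ⟨hg, hmap.1, hmap.2.1⟩, hmap.2.2⟩

/-- the image in the symmetric group of a subgroup of `M22` -/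
def img22 (H : Subgroup ↥Cfsg.Spor.M22) : Subgroup (Equiv.Perm GolayPt) :=
  H.map Cfsg.Spor.M22.subtype

theorem mem_img22 {H : Subgroup ↥Cfsg.Spor.M22} (y : ↥Cfsg.Spor.M22) :
    (y : Equiv.Perm GolayPt) ∈ img22 H ↔ y ∈ H := by
  unfold img22
  rw [show (y : Equiv.Perm GolayPt) = Cfsg.Spor.M22.subtype y from rfl,
    Subgroup.mem_map_iff_mem Cfsg.Spor.M22.subtype_injective]

theorem img22_le (H : Subgroup ↥Cfsg.Spor.M22) : img22 H ≤ Cfsg.Spor.M22 := by
  rintro _ ⟨y, _, rfl⟩
  exact y.2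

theorem card_img22 (H : Subgroup ↥Cfsg.Spor.M22) : Nat.card (img22 H) = Nat.card H := by
  unfold img22
  rw [Nat.card_congr (Subgroup.equivMapOfInjective _ Cfsg.Spor.M22.subtype
      Cfsg.Spor.M22.subtype_injective).symm.toEquiv]

/-- the stabilizer in `M22` of one of the 22 points has index 22 -/
theorem index_stab_M22 {c : GolayPt} (hc : c ≠ none) (hc0 : c ≠ some 0) :
    ((MulAction.stabilizer (Equiv.Perm GolayPt) c).subgroupOf Cfsg.Spor.M22).index = 22 := by
  have h1 := Subgroup.card_mul_index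
    ((MulAction.stabilizer (Equiv.Perm GolayPt) c).subgroupOf Cfsg.Spor.M22)
  have h2 : Nat.card ((MulAction.stabilizer (Equiv.Perm GolayPt) c).subgroupOf Cfsg.Spor.M22) =
      20160 := by
    rw [← card_img22]
    have : img22 ((MulAction.stabilizer (Equiv.Perm GolayPt) c).subgroupOf Cfsg.Spor.M22) =
        stb (stb (stb M24 none) (some 0)) c := by
      ext g
      constructor
      · rintro ⟨y, hy, rfl⟩
        rw [SetLike.mem_coe, Subgroup.mem_subgroupOf, MulAction.mem_stabilizer_iff] at hy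
        exact mem_stb.mpr ⟨y.2, hy⟩
      · intro hg
        obtain ⟨hg1, hg2⟩ := mem_stb.mp hg
        refine ⟨⟨g, hg1⟩, ?_, rfl⟩
        rw [SetLike.mem_coe, Subgroup.mem_subgroupOf, MulAction.mem_stabilizer_iff]
        exact hg2
    rw [this]
    exact card_stb3 (by decide) (Ne.symm hc) (Ne.symm hc0)
  rw [h2, card_M22'] at h1
  omega

/-- **subgroups of index 22 of `M22`** are the stabilizers of the 22 points -/
theorem m22_index22 (H : Subgroup ↥Cfsg.Spor.M22) (hH : H.index = 22) :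
    ∃ c : GolayPt, c ≠ none ∧ c ≠ some 0 ∧
      H = (MulAction.stabilizer (Equiv.Perm GolayPt) c).subgroupOf Cfsg.Spor.M22 := by
  have hcard : Nat.card (img22 H) = 20160 := by
    rw [card_img22]
    have h1 := Subgroup.card_mul_index H
    rw [hH, card_M22'] at h1
    omega
  have hfix : ∀ k ∈ img22 H, k none = none ∧ k (some 0) = some 0 := fun k hk =>
    (mem_M22.mp (img22_le H hk)).2
  obtain ⟨c, hc, hc0, hfixc⟩ := three_pt_case (img22 H) ((img22_le H).trans M22_le)
    (a := none) (b := some 0) (by decide) (fun k hk => (hfix k hk).1) (fun k hk => (hfix k hk).2)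
    hcard
  refine ⟨c, hc, hc0, ?_⟩
  have hle : img22 H ≤ stb (stb (stb M24 none) (some 0)) c := fun k hk =>
    mem_stb.mpr ⟨img22_le H hk, hfixc k hk⟩
  have heq : img22 H = stb (stb (stb M24 none) (some 0)) c := by
    apply Subgroup.eq_of_le_of_card_ge hle
    rw [hcard, card_stb3 (by decide) (Ne.symm hc) (Ne.symm hc0)]
  ext z
  rw [← mem_img22 z, heq, Subgroup.mem_subgroupOf, MulAction.mem_stabilizer_iff, mem_stb]
  constructor
  · intro hz
    exact hz.2
  · intro hz
    exact ⟨z.2, hz⟩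

end Cfsg.Agent.Lib.Helper6.M24Idx
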