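import Cfsg.Agent.Lib.Helper6.M24Idx.Odd4

set_option autoImplicit false
set_option linter.unusedSectionVars false

/-! # Subgroups of index 759, 276, 1771 and 253 of the group of the length-24 code -/

namespace Cfsg.Agent.Lib.Helper6.M24Idx

open Cfsg
open Cfsg.Agent.Lib.Helper9.M24 (image_mem_octads card_M24 sextOf sextOf_mem_sextets)

open scoped Pointwise

theorem octad_case (K : Subgroup (Equiv.Perm GolayPt)) (hK : K ≤ M24)
    (hcard : Nat.card K = 322560) :
    ∃ O ∈ octads, K = M24 ⊓ MulAction.stabilizer (Equiv.Perm GolayPt) O := by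
  obtain ⟨O, h⟩ := Setup.of_sylow K hK (by rw [hcard]; norm_num)
  rcases h.inv_or_trans with hinv | htr
  · refine ⟨O, h.hO, ?_⟩
    have hle : K ≤ M24 ⊓ MulAction.stabilizer (Equiv.Perm GolayPt) O := by
      intro k hk
      rw [Subgroup.mem_inf, MulAction.mem_stabilizer_iff]
      exact ⟨hK hk, hinv.image_eq hk⟩
    apply Subgroup.eq_of_le_of_card_ge hle
    rw [hcard, card_stab_octad h.hO]
  · exfalso
    exact h.no_trans htr (by rw [hcard]; norm_num) (by rw [hcard]; norm_num)
      (by rw [hcard]; norm_num) (by rw [hcard]; norm_num)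

theorem no_index_253 (K : Subgroup (Equiv.Perm GolayPt)) (hK : K ≤ M24)
    (hcard : Nat.card K = 967680) : False := by
  obtain ⟨O, h⟩ := Setup.of_sylow K hK (by rw [hcard]; norm_num)
  rcases h.inv_or_trans with hinv | htr
  · have hle : K ≤ M24 ⊓ MulAction.stabilizer (Equiv.Perm GolayPt) O := by
      intro k hk
      rw [Subgroup.mem_inf, MulAction.mem_stabilizer_iff]
      exact ⟨hK hk, hinv.image_eq hk⟩
    have := Subgroup.card_dvd_of_le hle
    rw [hcard, card_stab_octad h.hO] at this
    norm_num at this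
  · exact h.no_trans htr (by rw [hcard]; norm_num) (by rw [hcard]; norm_num)
      (by rw [hcard]; norm_num) (by rw [hcard]; norm_num)

theorem pair_case (K : Subgroup (Equiv.Perm GolayPt)) (hK : K ≤ M24)
    (hcard : Nat.card K = 887040) :
    ∃ s : Finset GolayPt, s.card = 2 ∧ K = M24 ⊓ MulAction.stabilizer (Equiv.Perm GolayPt) s := by
  obtain ⟨s, hs, hinv⟩ := even_case K hK hcard
  refine ⟨s, hs, ?_⟩
  have hle : K ≤ M24 ⊓ MulAction.stabilizer (Equiv.Perm GolayPt) s := by
    intro k hk
    rw [Subgroup.mem_inf, MulAction.mem_stabilizer_iff]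
    exact ⟨hK hk, hinv.image_eq hk⟩
  apply Subgroup.eq_of_le_of_card_ge hle
  rw [hcard]
  exact card_stab_pair hs

theorem sextet_case' (K : Subgroup (Equiv.Perm GolayPt)) (hK : K ≤ M24)
    (hcard : Nat.card K = 138240) :
    ∃ S ∈ sextets, K = M24 ⊓ MulAction.stabilizer (Equiv.Perm GolayPt) S := by
  obtain ⟨T, hT, hinv⟩ := sextet_case K hK hcard
  have hS : sextOf T ∈ sextets := sextOf_mem_sextets hT
  refine ⟨sextOf T, hS, ?_⟩
  have hle : K ≤ M24 ⊓ MulAction.stabilizer (Equiv.Perm GolayPt) (sextOf T) := by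
    intro k hk
    rw [Subgroup.mem_inf, MulAction.mem_stabilizer_iff]
    exact ⟨hK hk, hinv k hk⟩
  apply Subgroup.eq_of_le_of_card_ge hle
  rw [hcard, card_stab_sextet hS]

/-- the image in the symmetric group of a subgroup of the group of the code -/
theorem card_map_subtype (H : Subgroup ↥M24) :
    Nat.card (H.map M24.subtype) = Nat.card H :=
  Nat.card_congr (H.equivMapOfInjective M24.subtype M24.subtype_injective).symm.toEquiv

theorem map_subtype_le (H : Subgroup ↥M24) : H.map M24.subtype ≤ M24 := by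
  rintro _ ⟨x, _, rfl⟩
  exact x.2

theorem card_of_index (H : Subgroup ↥M24) {n m : ℕ} (hn : H.index = n) (hm : m * n = 244823040)
    (hn0 : 0 < n) : Nat.card (H.map M24.subtype) = m := by
  rw [card_map_subtype]
  have := Subgroup.card_mul_index H
  rw [hn, card_M24, ← hm] at this
  exact Nat.eq_of_mul_eq_mul_right hn0 this

/-- pulling back a stabilizer -/
theorem eq_stabilizer_of_map {Y : Type*} [MulAction (Equiv.Perm GolayPt) Y] (H : Subgroup ↥M24)
    (y : Y) (h : H.map M24.subtype = M24 ⊓ MulAction.stabilizer (Equiv.Perm GolayPt) y) :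
    H = MulAction.stabilizer M24 y := by
  ext x
  rw [← Subgroup.mem_map_iff_mem M24.subtype_injective (K := H), h, Subgroup.mem_inf,
    MulAction.mem_stabilizer_iff, MulAction.mem_stabilizer_iff]
  constructor
  · intro hx
    exact hx.2
  · intro hx
    exact ⟨x.2, hx⟩

end Cfsg.Agent.Lib.Helper6.M24Idx
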