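import Cfsg.Agent.Lib.Helper6.M24Idx.Blocks
import Cfsg.Agent.Lib.Helper6.M24Idx.Facts4

set_option autoImplicit false
set_option linter.unusedSectionVars false

/-! # Subgroups of the group of the length-24 code containing a Sylow 2-subgroup -/

namespace Cfsg.Agent.Lib.Helper6.M24Idx

open Cfsg
open Cfsg.Agent.Lib.Helper9.M24 (image_mem_octads card_M24)

open scoped Pointwise

/-- generic: two blocks with fixed points of an element of prime order -/
theorem fix_two_blocks {X : Type*} [Fintype X] [DecidableEq X] {K : Subgroup (Equiv.Perm X)}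
    (htr : ∀ x y : X, ∃ k ∈ K, k x = y) {T : Finset X} {a : X} (ha : a ∈ T)
    (hT : ∀ h ∈ K, h a ∈ T → T.image h = T) {g : Equiv.Perm X} (hg : g ∈ stb K a) (p : ℕ)
    [hp : Fact p.Prime] (hgp : g ^ p = 1) (hne : T.card % p ≠ (fixF g).card % p) :
    2 * (T.card % p) ≤ (fixF g).card := by
  have hg' := mem_stb.mp hg
  have hTg : ∀ x ∈ T, g x ∈ T := by
    intro x hx
    have := hT g hg'.1 (by rw [hg'.2]; exact ha)
    rw [← this]
    exact Finset.mem_image_of_mem _ hx
  have h1 := card_modEq_fix g p hgp T hTg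
  unfold Nat.ModEq at h1
  obtain ⟨f, hf, hfT⟩ : ∃ f ∈ fixF g, f ∉ T := by
    by_contra hcon
    push Not at hcon
    have hsub : fixF g ⊆ T := hcon
    rw [Finset.inter_eq_right.mpr hsub] at h1
    exact hne h1
  obtain ⟨h, hh, hha, hdisj, hPinv⟩ := block_fix htr ha hT hg (mem_fixF.mp hf) hfT
  have h2 := card_modEq_fix g p hgp (T.image h) hPinv
  unfold Nat.ModEq at h2
  rw [Finset.card_image_of_injective _ h.injective] at h2
  have h3 := card_fix_ge g hdisj
  have h4 := Nat.mod_le (T ∩ fixF g).card p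
  have h5 := Nat.mod_le (Finset.image h T ∩ fixF g).card p
  omega

/-- the situation of a subgroup containing a Sylow 2-subgroup: an octad on which the subgroup
is transitive, with elements fixing the octad pointwise and transitive on the complement -/
structure Setup (K : Subgroup (Equiv.Perm GolayPt)) (O : Finset GolayPt) : Prop where
  hK : K ≤ M24
  hO : O ∈ octads
  hQ : ∀ u, u ∉ O → ∀ v, v ∉ O → ∃ q ∈ K, (∀ x ∈ O, q x = x) ∧ q u = v
  hS : ∀ x ∈ O, ∀ y ∈ O, ∃ s ∈ K, s x = y

theorem Setup.of_sylow (K : Subgroup (Equiv.Perm GolayPt)) (hK : K ≤ M24)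
    (h2 : 2 ^ 10 ∣ Nat.card K) : ∃ O, Setup K O := by
  obtain ⟨O, hO, hQ, hS⟩ := sylow_pkg K hK h2
  exact ⟨O, hK, hO, hQ, hS⟩

variable {K : Subgroup (Equiv.Perm GolayPt)} {O : Finset GolayPt}

theorem Setup.exists_mem (h : Setup K O) : ∃ a, a ∈ O := by
  have := card_octad h.hO
  have hne : O.Nonempty := by
    rw [← Finset.card_pos, this]
    norm_num
  exact hne

theorem Setup.exists_not_mem (h : Setup K O) : ∃ u, u ∉ O := by
  have := card_octad h.hO
  by_contra hcon
  push Not at hcon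
  have h1 : O = Finset.univ := Finset.eq_univ_iff_forall.mpr hcon
  rw [h1, Finset.card_univ, card_pts] at this
  omega

/-- either the octad is invariant, or the subgroup is transitive -/
theorem Setup.inv_or_trans (h : Setup K O) : Inv K O ∨ ∀ x y : GolayPt, ∃ k ∈ K, k x = y := by
  by_cases hinv : Inv K O
  · exact Or.inl hinv
  · right
    unfold Inv at hinv
    push Not at hinv
    obtain ⟨k, hk, x, hx, hkx⟩ := hinv
    have hall : ∀ y, ∃ l ∈ K, l x = y := by
      intro y
      by_cases hy : y ∈ O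
      · exact h.hS x hx y hy
      · obtain ⟨q, hq, _, hqu⟩ := h.hQ (k x) hkx y hy
        exact ⟨q * k, K.mul_mem hq hk, by rw [Equiv.Perm.mul_apply, hqu]⟩
    intro p q
    obtain ⟨l1, hl1, rfl⟩ := hall p
    obtain ⟨l2, hl2, rfl⟩ := hall q
    exact ⟨l2 * l1⁻¹, K.mul_mem hl2 (K.inv_mem hl1), by
      rw [Equiv.Perm.mul_apply, perm_inv_apply]⟩

theorem card_eq_of_trans (htr : ∀ x y : GolayPt, ∃ k ∈ K, k x = y) (a : GolayPt) :
    Nat.card K = 24 * Nat.card (stb K a) := by
  have h1 := card_eq_orb_mul_stb K a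
  have h2 : orb K a = Finset.univ := by
    ext y
    simp only [Finset.mem_univ, iff_true]
    exact mem_orb.mpr (htr a y)
  rw [h2, Finset.card_univ, card_pts] at h1
  exact h1

/-- the big orbit of the point stabilizer -/
theorem Setup.theta (h : Setup K O) {a u0 : GolayPt} (ha : a ∈ O) (hu0 : u0 ∉ O) :
    Oᶜ ⊆ orb (stb K a) u0 ∧ a ∉ orb (stb K a) u0 ∧
    (((orb (stb K a) u0).card = 16 ∧ Inv (stb K a) O ∧ orb (stb K a) u0 = Oᶜ) ∨
      (20 ≤ (orb (stb K a) u0).card ∧ (orb (stb K a) u0).card ≤ 23)) := by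
  set Θ := orb (stb K a) u0 with hΘ
  have hsub : Oᶜ ⊆ Θ := by
    intro v hv
    rw [Finset.mem_compl] at hv
    obtain ⟨q, hq, hqO, hqu⟩ := h.hQ u0 hu0 v hv
    exact mem_orb.mpr ⟨q, mem_stb.mpr ⟨hq, hqO a ha⟩, hqu⟩
  have haΘ : a ∉ Θ := by
    intro hcon
    obtain ⟨k, hk, hku⟩ := mem_orb.mp hcon
    have hka := (mem_stb.mp hk).2
    have : u0 = a := k.injective (hku.trans hka.symm)
    exact hu0 (this ▸ ha)
  refine ⟨hsub, haΘ, ?_⟩
  have hRO : Θᶜ ⊆ O := by
    intro x hx
    by_contra hxO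
    exact (Finset.mem_compl.mp hx) (hsub (Finset.mem_compl.mpr hxO))
  have hRinv : Inv (stb K a) Θᶜ := (inv_orb _ _).compl
  have hcR : Θᶜ.card + Θ.card = 24 := by
    rw [Finset.card_compl, card_pts]
    have := Finset.card_le_univ Θ
    rw [card_pts] at this
    omega
  have hR1 : 1 ≤ Θᶜ.card := Finset.card_pos.mpr ⟨a, Finset.mem_compl.mpr haΘ⟩
  have hKa : stb K a ≤ M24 := (stb_le K a).trans h.hK
  by_cases h5 : 5 ≤ Θᶜ.card
  · left
    have hinv : Inv (stb K a) O := inv_octad_of_inv hKa h.hO h5 hRO hRinv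
    have hΘO : Θ ⊆ Oᶜ := hinv.compl.orb_subset (Finset.mem_compl.mpr hu0)
    have heq : Θ = Oᶜ := Finset.Subset.antisymm hΘO hsub
    refine ⟨?_, hinv, heq⟩
    rw [heq, Finset.card_compl, card_pts, card_octad h.hO]
  · right
    omega

/-- if the point stabilizer stabilizes the octad, then the octad is a block -/
theorem Setup.block_octad (h : Setup K O) {a : GolayPt} (hinv : Inv (stb K a) O) :
    ∀ g ∈ K, g a ∈ O → O.image g = O := by
  intro g hg hga
  have hO' : O.image g ∈ octads := image_mem_octads (h.hK hg) h.hO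
  have hinv' : Inv (stb K (g a)) (O.image g) := image_inv_of_conj hinv hg
  by_contra hne
  obtain ⟨u, hu, huO⟩ : ∃ u ∈ O.image g, u ∉ O := by
    by_contra hcon
    push Not at hcon
    apply hne
    apply Finset.eq_of_subset_of_card_le hcon
    rw [Finset.card_image_of_injective _ g.injective]
  have hsub : Oᶜ ⊆ O.image g := by
    intro v hv
    rw [Finset.mem_compl] at hv
    obtain ⟨q, hq, hqO, hqu⟩ := h.hQ u huO v hv
    have hq' : q ∈ stb K (g a) := mem_stb.mpr ⟨hq, hqO _ hga⟩
    rw [← hqu]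
    exact hinv' q hq' u hu
  have h1 := Finset.card_le_card hsub
  rw [Finset.card_compl, card_pts, card_octad h.hO, card_octad hO'] at h1
  omega

end Cfsg.Agent.Lib.Helper6.M24Idx
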