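import Cfsg.Agent.Lib.Helper6.M24Idx.Odd1

set_option autoImplicit false
set_option linter.unusedSectionVars false

/-! # Transitive subgroups containing a Sylow 2-subgroup, of order divisible by 35 but not by 11
or 23, do not exist -/

namespace Cfsg.Agent.Lib.Helper6.M24Idx

open Cfsg
open Cfsg.Agent.Lib.Helper9.M24 (image_mem_octads card_M24)

open scoped Pointwise

variable {K : Subgroup (Equiv.Perm GolayPt)} {O : Finset GolayPt}

theorem finite_stb (K : Subgroup (Equiv.Perm GolayPt)) (a : GolayPt) : Finite (stb K a) :=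
  inferInstance

/-- an element of prime order in the point stabilizer -/
theorem exists_prime_order_stb (htr : ∀ x y : GolayPt, ∃ k ∈ K, k x = y) (a : GolayPt) (p : ℕ)
    [hp : Fact p.Prime] (hp24 : Nat.Coprime p 24) (hd : p ∣ Nat.card K) :
    ∃ g ∈ stb K a, g ^ p = 1 ∧ g ≠ 1 := by
  apply exists_prime_order
  rw [card_eq_of_trans htr a] at hd
  exact hp24.dvd_of_dvd_mul_left hd

/-- the orbit lengths of the point stabilizer on the points outside the fixed points of an element
of order seven -/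
theorem card_orb_mod_seven {L : Subgroup (Equiv.Perm GolayPt)} (hL : L ≤ M24) {a : GolayPt}
    (hLa : ∀ k ∈ L, k a = a) (h7 : 7 ∣ Nat.card L) {S : Finset GolayPt} (hS : Inv L S)
    (haS : a ∉ S) : S.card % 7 ≤ 2 := by
  haveI : Fact (Nat.Prime 7) := ⟨by norm_num⟩
  obtain ⟨g, hg, hg7, hg1⟩ := exists_prime_order L 7 h7
  have hfix := card_fix_seven (hL hg) hg7 hg1
  have h1 := card_modEq_fix g 7 hg7 S (hS g hg)
  unfold Nat.ModEq at h1
  have h2 : S ∩ fixF g ⊆ (fixF g).erase a := by
    intro x hx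
    rw [Finset.mem_inter] at hx
    rw [Finset.mem_erase]
    exact ⟨fun hxa => haS (hxa ▸ hx.1), hx.2⟩
  have h3 := Finset.card_le_card h2
  rw [Finset.card_erase_of_mem (mem_fixF.mpr (hLa g hg)), hfix] at h3
  have h4 := Nat.mod_le (S ∩ fixF g).card 7
  omega

/-- **no transitive subgroup** -/
theorem Setup.no_trans (h : Setup K O) (htr : ∀ x y : GolayPt, ∃ k ∈ K, k x = y)
    (h7 : 7 ∣ Nat.card K) (h5 : 5 ∣ Nat.card K) (h11 : ¬ 11 ∣ Nat.card K)
    (h23 : ¬ 23 ∣ Nat.card K) : False := by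
  haveI : Fact (Nat.Prime 7) := ⟨by norm_num⟩
  haveI : Fact (Nat.Prime 5) := ⟨by norm_num⟩
  obtain ⟨a, ha⟩ := h.exists_mem
  obtain ⟨u0, hu0⟩ := h.exists_not_mem
  obtain ⟨hsub, haΘ, hcases⟩ := h.theta ha hu0
  have hKa : stb K a ≤ M24 := (stb_le K a).trans h.hK
  have h7a : 7 ∣ Nat.card (stb K a) := by
    have := h7
    rw [card_eq_of_trans htr a] at this
    exact (show Nat.Coprime 7 24 by norm_num).dvd_of_dvd_mul_left this
  obtain ⟨g5, hg5, hg55, hg51⟩ := exists_prime_order_stb htr a 5 (by norm_num) h5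
  have hfix5 := card_fix_five (hKa hg5) hg55 hg51
  set Θ := orb (stb K a) u0 with hΘ
  have hmod7 : Θ.card % 7 ≤ 2 :=
    card_orb_mod_seven hKa (fun k hk => (mem_stb.mp hk).2) h7a (inv_orb _ _) haΘ
  have hdvd : Θ.card ∣ Nat.card K :=
    (card_orb_dvd (stb K a) u0).trans (card_stb_dvd K a)
  rcases hcases with ⟨h16, hinv, hΘO⟩ | ⟨h20, h23'⟩
  · -- the octad is a block
    have hT := h.block_octad hinv
    have := fix_two_blocks htr ha hT hg5 5 hg55 (by rw [card_octad h.hO, hfix5]; norm_num)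
    rw [card_octad h.hO, hfix5] at this
    omega
  · have hcard : Θ.card = 21 := by
      have : Θ.card = 20 ∨ Θ.card = 21 ∨ Θ.card = 22 ∨ Θ.card = 23 := by omega
      rcases this with h' | h' | h' | h'
      · rw [h'] at hmod7
        omega
      · exact h'
      · rw [h'] at hdvd
        exact absurd ((show 11 ∣ 22 by norm_num).trans hdvd) h11
      · rw [h'] at hdvd
        exact absurd hdvd h23
    have hc3 : Θᶜ.card = 3 := by
      rw [Finset.card_compl, card_pts, hcard]
    have haT : a ∈ Θᶜ := Finset.mem_compl.mpr haΘ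
    have hTinv : Inv (stb K a) Θᶜ := (inv_orb _ _).compl
    have hbig : ∀ z, z ∉ Θᶜ → 3 ≤ (orb (stb K a) z).card := by
      intro z hz
      rw [Finset.mem_compl, not_not] at hz
      rw [orb_eq_of_mem hz, ← hΘ, hcard]
      norm_num
    have hT := block_three htr hc3 haT hTinv hbig
    have := fix_two_blocks htr haT hT hg5 5 hg55 (by rw [hc3, hfix5]; norm_num)
    rw [hc3, hfix5] at this
    omega

end Cfsg.Agent.Lib.Helper6.M24Idx
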