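import Cfsg.Agent.Lib.Helper6.M24Idx.Even
import Cfsg.Agent.Lib.Helper9.SextetAct

set_option autoImplicit false
set_option linter.unusedSectionVars false

/-! # Subgroups of index 1771 stabilize a sextet -/

namespace Cfsg.Agent.Lib.Helper6.M24Idx

open Cfsg
open Cfsg.Agent.Lib.Helper9.M24 (image_mem_octads card_M24 sextOf smul_sextOf_eq_iff codeSet_empty
  octad_codeSet smul_finset_eq_image' CodeSet)

open scoped Pointwise

theorem fix_of_map_eq {α : Type*} (g : α → α) : ∀ l : List α, l.map g = l → ∀ x ∈ l, g x = x := by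
  intro l
  induction l with
  | nil => intro _ x hx; simp at hx
  | cons y l ih =>
    intro h x hx
    rw [List.map_cons, List.cons.injEq] at h
    rcases List.mem_cons.mp hx with rfl | hx
    · exact h.1
    · exact ih h.2 x hx

/-- the pointwise stabilizer of at most four points is transitive on the remaining points -/
theorem pointwise_trans {T : Finset GolayPt} (hT : T.card ≤ 4) {c v : GolayPt} (hc : c ∉ T)
    (hv : v ∉ T) : ∃ q ∈ M24, (∀ t ∈ T, q t = t) ∧ q c = v := by
  obtain ⟨q, hq, hmap⟩ := trans_list (T.toList ++ [c]) (T.toList ++ [v])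
    (List.Nodup.append (Finset.nodup_toList T) (List.nodup_singleton c) (by
      intro x hx hx'
      rw [List.mem_singleton] at hx'
      exact hc (hx' ▸ Finset.mem_toList.mp hx)))
    (List.Nodup.append (Finset.nodup_toList T) (List.nodup_singleton v) (by
      intro x hx hx'
      rw [List.mem_singleton] at hx'
      exact hv (hx' ▸ Finset.mem_toList.mp hx)))
    (by simp) (by simp; omega)
  rw [List.map_append] at hmap
  have h1 := List.append_inj hmap (by rw [List.length_map])
  refine ⟨q, hq, ?_, ?_⟩
  · intro t ht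
    exact fix_of_map_eq q _ h1.1 t (Finset.mem_toList.mpr ht)
  · simpa using h1.2

/-- **the tetrad case**: the point stabilizer has an orbit of twenty points -/
theorem tetrad_case {K : Subgroup (Equiv.Perm GolayPt)} (hK : K ≤ M24)
    (htr : ∀ x y : GolayPt, ∃ k ∈ K, k x = y) {a : GolayPt}
    (hcarda : Nat.card (stb K a) = 5760) {Θ : Finset GolayPt} (hΘinv : Inv (stb K a) Θ)
    (hΘ20 : Θ.card = 20) (haΘ : a ∉ Θ) :
    ∃ T : Finset GolayPt, T.card = 4 ∧ ∀ g ∈ K, g • sextOf T = sextOf T := by
  have hT4 : Θᶜ.card = 4 := by rw [Finset.card_compl, card_pts, hΘ20]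
  have haT : a ∈ Θᶜ := Finset.mem_compl.mpr haΘ
  have hTinv : Inv (stb K a) Θᶜ := hΘinv.compl
  refine ⟨Θᶜ, hT4, ?_⟩
  set T := Θᶜ with hTdef
  have hfixa : ∀ k ∈ stb K a, k a = a := fun k hk => (mem_stb.mp hk).2
  -- the point stabilizer is the full stabilizer of the point and the tetrad
  have hW3 : (T.erase a).card = 3 := by rw [Finset.card_erase_of_mem haT, hT4]
  have haW : a ∉ T.erase a := Finset.notMem_erase a T
  have hle : stb K a ≤ stb M24 a ⊓ MulAction.stabilizer (Equiv.Perm GolayPt) (T.erase a) := by
    intro k hk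
    rw [Subgroup.mem_inf, MulAction.mem_stabilizer_iff]
    refine ⟨mem_stb.mpr ⟨hK (mem_stb.mp hk).1, hfixa k hk⟩, ?_⟩
    show (T.erase a).image k = T.erase a
    have h1 : Inv (stb K a) (T.erase a) := by
      intro k' hk' x hx
      rw [Finset.mem_erase] at hx ⊢
      refine ⟨?_, hTinv k' hk' x hx.2⟩
      intro h
      exact hx.1 (k'.injective (h.trans (hfixa k' hk').symm))
    exact h1.image_eq hk
  have heq : stb K a = stb M24 a ⊓ MulAction.stabilizer (Equiv.Perm GolayPt) (T.erase a) := by
    apply Subgroup.eq_of_le_of_card_ge hle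
    rw [hcarda]
    exact card_stab_pt_triple a hW3 haW
  have hfull : ∀ g ∈ M24, (∀ t ∈ T, g t = t) → g ∈ K := by
    intro g hg hfix
    apply stb_le K a
    rw [heq, Subgroup.mem_inf, MulAction.mem_stabilizer_iff]
    refine ⟨mem_stb.mpr ⟨hg, hfix a haT⟩, ?_⟩
    show (T.erase a).image g = T.erase a
    apply Finset.eq_of_subset_of_card_le
    · intro x hx
      obtain ⟨t, ht, rfl⟩ := Finset.mem_image.mp hx
      rw [hfix t (Finset.mem_of_mem_erase ht)]
      exact ht
    · rw [Finset.card_image_of_injective _ g.injective]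
  -- the tetrad is a block
  have hblock : ∀ g ∈ K, g a ∈ T → T.image g = T := by
    intro g hg hga
    have hinv' : Inv (stb K (g a)) (T.image g) := image_inv_of_conj hTinv hg
    by_contra hne
    obtain ⟨c, hc, hcT⟩ : ∃ c ∈ T.image g, c ∉ T := by
      by_contra hcon
      push Not at hcon
      apply hne
      apply Finset.eq_of_subset_of_card_le hcon
      rw [Finset.card_image_of_injective _ g.injective]
    have hsub : Tᶜ ⊆ T.image g := by
      intro v hv
      rw [Finset.mem_compl] at hv
      obtain ⟨q, hq, hqT, hqc⟩ := pointwise_trans (by omega) hcT hv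
      have hq' : q ∈ stb K (g a) := mem_stb.mpr ⟨hfull q hq hqT, hqT _ hga⟩
      rw [← hqc]
      exact hinv' q hq' c hc
    have h1 := Finset.card_le_card hsub
    rw [Finset.card_compl, card_pts, hT4, Finset.card_image_of_injective _ g.injective, hT4] at h1
    omega
  -- the sextet of the tetrad is invariant
  intro g hg
  rw [smul_sextOf_eq_iff (hK hg) hT4, smul_finset_eq_image']
  by_cases hga : g a ∈ T
  · rw [hblock g hg hga, symmDiff_self]
    exact codeSet_empty
  · have hdisj : Disjoint T (T.image g) := by
      rw [Finset.disjoint_right]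
      intro x hx hxT
      obtain ⟨t, ht, rfl⟩ := Finset.mem_image.mp hx
      have := block_of_point htr haT hblock hg ht hxT
      apply hga
      rw [← this]
      exact Finset.mem_image_of_mem _ haT
    have hinv' : Inv (stb K (g a)) (T.image g) := image_inv_of_conj hTinv hg
    have hc5 : (insert (g a) T).card = 5 := by rw [Finset.card_insert_of_notMem hga, hT4]
    obtain ⟨O1, hO1, hsub1⟩ := exists_octad hc5
    have hTO1 : T ⊆ O1 := (Finset.subset_insert _ _).trans hsub1
    have hcO1 : g a ∈ O1 := hsub1 (Finset.mem_insert_self _ _)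
    have hT'O1 : T.image g ⊆ O1 := by
      by_contra hcon
      rw [Finset.not_subset] at hcon
      obtain ⟨v0, hv0, hv0O⟩ := hcon
      have hsub : O1ᶜ ⊆ T.image g := by
        intro v hv
        rw [Finset.mem_compl] at hv
        obtain ⟨q, hq, hqO, hqv⟩ := octad_fixer_trans hO1 hv0O hv
        have hqK : q ∈ K := hfull q hq (fun t ht => hqO t (hTO1 ht))
        have hq' : q ∈ stb K (g a) := mem_stb.mpr ⟨hqK, hqO _ hcO1⟩
        rw [← hqv]
        exact hinv' q hq' v0 hv0
      have h1 := Finset.card_le_card hsub
      rw [Finset.card_compl, card_pts, card_octad hO1,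
        Finset.card_image_of_injective _ g.injective, hT4] at h1
      omega
    have hunion : T ∪ T.image g = O1 := by
      apply Finset.eq_of_subset_of_card_le (Finset.union_subset hTO1 hT'O1)
      rw [Finset.card_union_of_disjoint hdisj, Finset.card_image_of_injective _ g.injective, hT4,
        card_octad hO1]
    rw [hdisj.symmDiff_eq_sup]
    show CodeSet (T ∪ T.image g)
    rw [hunion]
    exact octad_codeSet hO1

end Cfsg.Agent.Lib.Helper6.M24Idx
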