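import Cfsg.Agent.Lib.Helper6.M24Idx.Odd3

set_option autoImplicit false
set_option linter.unusedSectionVars false

/-! # Subgroups of index 1771 stabilize a sextet: the case of an invariant octad of the point
stabilizer, and the conclusion -/

namespace Cfsg.Agent.Lib.Helper6.M24Idx

open Cfsg
open Cfsg.Agent.Lib.Helper9.M24 (image_mem_octads card_M24 sextOf)

open scoped Pointwise

/-- points with equal stabilizers have orbits of equal length under any point stabilizer -/
theorem card_orb_eq_of_stb_eq {X : Type*} [Fintype X] [DecidableEq X]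
    {K : Subgroup (Equiv.Perm X)} {f1 f2 : X} (heq : stb K f1 = stb K f2) (a : X) :
    (orb (stb K a) f1).card = (orb (stb K a) f2).card := by
  have h1 := card_eq_orb_mul_stb (stb K a) f1
  have h2 := card_eq_orb_mul_stb (stb K a) f2
  rw [stb_stb_comm K a f1, heq, ← stb_stb_comm K a f2] at h1
  rw [h1] at h2
  have hpos : 0 < Nat.card (stb (stb K a) f2) := Nat.card_pos
  exact Nat.eq_of_mul_eq_mul_right hpos h2

/-- a point all of whose images under a subgroup coincide with it has a one-point orbit -/
theorem exists_move_of_card {X : Type*} [Fintype X] [DecidableEq X]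
    {L : Subgroup (Equiv.Perm X)} {z : X} (h : 2 ≤ (orb L z).card) : ∃ k ∈ L, k z ≠ z := by
  by_contra hcon
  push Not at hcon
  have h2 : orb L z ⊆ {z} := by
    intro y hy
    obtain ⟨k, hk, rfl⟩ := mem_orb.mp hy
    rw [Finset.mem_singleton]
    exact hcon k hk
  have h3 := Finset.card_le_card h2
  rw [Finset.card_singleton] at h3
  omega

/-- the point stabilizer of order 5760 cannot stabilize the octad -/
theorem case16_false {K : Subgroup (Equiv.Perm GolayPt)} {O : Finset GolayPt} (h : Setup K O)
    (htr : ∀ x y : GolayPt, ∃ k ∈ K, k x = y) {a : GolayPt} (ha : a ∈ O)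
    (hcarda : Nat.card (stb K a) = 5760) (hinv : Inv (stb K a) O)
    (hout : ∀ u, u ∉ O → orb (stb K a) u = Oᶜ) : False := by
  have : Fact (Nat.Prime 5) := ⟨by norm_num⟩
  have hKa : stb K a ≤ M24 := (stb_le K a).trans h.hK
  have hfixa : ∀ k ∈ stb K a, k a = a := fun k hk => (mem_stb.mp hk).2
  obtain ⟨g5, hg5, hg5p, hg5ne⟩ := exists_prime_order (stb K a) 5 (by rw [hcarda]; norm_num)
  have hfix5 := card_fix_five (hKa hg5) hg5p hg5ne
  have hO8 := card_octad h.hO
  have hOc16 : Oᶜ.card = 16 := by rw [Finset.card_compl, card_pts, hO8]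
  -- fixed points on the octad
  have hOfix : (O ∩ fixF g5).card = 3 := by
    have h1 := card_modEq_fix g5 5 hg5p O (hinv g5 hg5)
    unfold Nat.ModEq at h1
    have h2 := Finset.card_le_card (Finset.inter_subset_right : O ∩ fixF g5 ⊆ fixF g5)
    rw [hO8] at h1
    omega
  -- a moved point of the octad
  obtain ⟨z, hzO, hz⟩ : ∃ z ∈ O, g5 z ≠ z := by
    by_contra hcon
    push Not at hcon
    have : O ∩ fixF g5 = O := Finset.inter_eq_left.mpr (fun x hx => mem_fixF.mpr (hcon x hx))
    rw [this, hO8] at hOfix
    omega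
  have hza : z ≠ a := fun h' => hz (h' ▸ hfixa g5 hg5)
  obtain ⟨U, hU⟩ : ∃ U, U = orb (stb K a) z := ⟨_, rfl⟩
  have hUinv : Inv (stb K a) U := hU ▸ inv_orb _ _
  have hUdvd : U.card ∣ 5760 := by
    have := card_orb_dvd (stb K a) z
    rwa [hcarda, ← hU] at this
  have hzU : z ∈ U := hU ▸ self_mem_orb _ z
  have haU : a ∉ U := hU ▸ not_mem_orb_stb hza
  have horbU : ∀ x ∈ U, orb (stb K a) x = U := by
    intro x hx
    rw [hU] at hx ⊢
    exact orb_eq_of_mem hx
  have hUO : U ⊆ O.erase a := by
    intro x hx
    rw [Finset.mem_erase]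
    refine ⟨fun h' => haU (h' ▸ hx), ?_⟩
    rw [hU] at hx
    exact hinv.orb_subset hzO hx
  have hU7 : U.card ≤ 7 := by
    have := Finset.card_le_card hUO
    rwa [Finset.card_erase_of_mem ha, hO8] at this
  -- at least five points
  have hU5 : 5 ≤ U.card := by
    have hsinv : ∀ x ∈ U \ fixF g5, g5 x ∈ U \ fixF g5 := by
      intro x hx
      rw [Finset.mem_sdiff] at hx ⊢
      refine ⟨hUinv g5 hg5 x hx.1, ?_⟩
      intro h'
      apply hx.2
      rw [mem_fixF] at h' ⊢
      exact g5.injective h'
    have h3 := card_modEq_fix g5 5 hg5p (U \ fixF g5) hsinv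
    have h4 : (U \ fixF g5) ∩ fixF g5 = ∅ := by
      ext x
      simp
    rw [h4, Finset.card_empty] at h3
    unfold Nat.ModEq at h3
    have h5 : 0 < (U \ fixF g5).card :=
      Finset.card_pos.mpr ⟨z, Finset.mem_sdiff.mpr ⟨hzU, fun h' => hz (mem_fixF.mp h')⟩⟩
    have h6 := Finset.card_le_card (Finset.sdiff_subset : U \ fixF g5 ⊆ U)
    omega
  have hU56 : U.card = 5 ∨ U.card = 6 := by
    generalize U.card = n at *
    interval_cases n <;> omega
  -- the rest of the octad
  have hOe : Inv (stb K a) (O.erase a) := by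
    intro k hk x hx
    rw [Finset.mem_erase] at hx ⊢
    exact ⟨fun h' => hx.1 (k.injective (h'.trans (hfixa k hk).symm)), hinv k hk x hx.2⟩
  have hVinv : Inv (stb K a) (O.erase a \ U) := hOe.sdiff hUinv
  have hVcard : (O.erase a \ U).card + U.card = 7 := by
    rw [Finset.card_sdiff_add_card_eq_card hUO, Finset.card_erase_of_mem ha, hO8]
  have haV : a ∉ O.erase a \ U := fun h' => Finset.notMem_erase a O (Finset.mem_sdiff.mp h').1
  have hclass : ∀ z', z' ≠ a → z' ∉ O.erase a \ U → z' ∈ U ∨ z' ∉ O := by
    intro z' hz'a hz'V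
    by_cases hz'O : z' ∈ O
    · left
      by_contra hz'U
      exact hz'V (Finset.mem_sdiff.mpr ⟨Finset.mem_erase.mpr ⟨hz'a, hz'O⟩, hz'U⟩)
    · exact Or.inr hz'O
  have hbig' : ∀ z', z' ≠ a → z' ∉ O.erase a \ U → 5 ≤ (orb (stb K a) z').card := by
    intro z' hz'a hz'V
    rcases hclass z' hz'a hz'V with h' | h'
    · rw [horbU z' h']
      exact hU5
    · rw [hout z' h', hOc16]
      norm_num
  rcases hU56 with hU5' | hU6
  · -- three points form a block
    have hV2 : (O.erase a \ U).card = 2 := by omega
    have hc3 : (insert a (O.erase a \ U)).card = 3 := by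
      rw [Finset.card_insert_of_notMem haV, hV2]
    have hT3inv : Inv (stb K a) (insert a (O.erase a \ U)) := by
      intro k hk x hx
      rw [Finset.mem_insert] at hx ⊢
      rcases hx with rfl | hx
      · exact Or.inl (hfixa k hk)
      · exact Or.inr (hVinv k hk x hx)
    have hbig : ∀ z', z' ∉ insert a (O.erase a \ U) → 3 ≤ (orb (stb K a) z').card := by
      intro z' hz'
      rw [Finset.mem_insert, not_or] at hz'
      have := hbig' z' hz'.1 hz'.2
      omega
    have hT := block_three htr hc3 (Finset.mem_insert_self _ _) hT3inv hbig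
    have := fix_two_blocks htr (Finset.mem_insert_self _ _) hT hg5 5 hg5p
      (by rw [hc3, hfix5]; norm_num)
    rw [hc3, hfix5] at this
    omega
  · -- two points form a block
    have hV1 : (O.erase a \ U).card = 1 := by omega
    obtain ⟨y, hy⟩ := Finset.card_eq_one.mp hV1
    have hyV : y ∈ O.erase a \ U := by rw [hy]; exact Finset.mem_singleton_self y
    have hya : y ≠ a := fun h' => haV (h' ▸ hyV)
    have hyU : y ∉ U := (Finset.mem_sdiff.mp hyV).2
    have hyfix : ∀ k ∈ stb K a, k y = y := by
      intro k hk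
      have := hVinv k hk y hyV
      rwa [hy, Finset.mem_singleton] at this
    have hmove : ∀ z', z' ≠ a → z' ≠ y → ∃ k ∈ stb K a, k z' ≠ z' := by
      intro z' hz'a hz'y
      apply exists_move_of_card
      have := hbig' z' hz'a (by rw [hy, Finset.mem_singleton]; exact hz'y)
      omega
    have hT := block_two hyfix hmove
    have haT2 : a ∈ ({a, y} : Finset GolayPt) := Finset.mem_insert_self _ _
    have hc2 : ({a, y} : Finset GolayPt).card = 2 := Finset.card_pair hya.symm
    have hT2fix : ({a, y} : Finset GolayPt) ⊆ fixF g5 := by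
      intro x hx
      rw [Finset.mem_insert, Finset.mem_singleton] at hx
      rcases hx with rfl | rfl
      · exact mem_fixF.mpr (hfixa g5 hg5)
      · exact mem_fixF.mpr (hyfix g5 hg5)
    -- exactly one fixed point in `U`
    have hUfix : (U ∩ fixF g5).card = 1 := by
      have h1 := card_modEq_fix g5 5 hg5p U (hUinv g5 hg5)
      unfold Nat.ModEq at h1
      have h2 : U ∩ fixF g5 ⊆ fixF g5 \ {a, y} := by
        intro x hx
        rw [Finset.mem_inter] at hx
        rw [Finset.mem_sdiff, Finset.mem_insert, Finset.mem_singleton]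
        refine ⟨hx.2, ?_⟩
        rintro (rfl | rfl)
        · exact haU hx.1
        · exact hyU hx.1
      have h3 := Finset.card_le_card h2
      rw [Finset.card_sdiff_of_subset hT2fix, hfix5, hc2] at h3
      rw [hU6] at h1
      omega
    obtain ⟨f1, hf1⟩ := Finset.card_eq_one.mp hUfix
    have hf1' : f1 ∈ U ∩ fixF g5 := by rw [hf1]; exact Finset.mem_singleton_self f1
    have hf1U : f1 ∈ U := (Finset.mem_inter.mp hf1').1
    have hf1fix : g5 f1 = f1 := mem_fixF.mp (Finset.mem_inter.mp hf1').2
    have hf1T2 : f1 ∉ ({a, y} : Finset GolayPt) := by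
      rw [Finset.mem_insert, Finset.mem_singleton]
      rintro (rfl | rfl)
      · exact haU hf1U
      · exact hyU hf1U
    obtain ⟨k, hk, hka, hdisj, hPinv⟩ := block_fix htr haT2 hT hg5 hf1fix hf1T2
    have hf2P : k y ∈ ({a, y} : Finset GolayPt).image k :=
      Finset.mem_image_of_mem _ (Finset.mem_insert_of_mem (Finset.mem_singleton_self y))
    have hf2T2 : k y ∉ ({a, y} : Finset GolayPt) := Finset.disjoint_left.mp hdisj hf2P
    have hf21 : k y ≠ f1 := by
      rw [← hka]
      exact fun h' => hya (k.injective h')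
    have hf2fix : g5 (k y) = k y := by
      have := hPinv (k y) hf2P
      rw [Finset.image_insert, Finset.image_singleton, Finset.mem_insert, Finset.mem_singleton,
        hka] at this
      rcases this with h' | h'
      · exact absurd (g5.injective (h'.trans hf1fix.symm)) hf21
      · exact h'
    -- the two fixed points have the same stabilizer
    have hstb : stb K f1 = stb K (k y) := by
      have hle : stb K f1 ≤ stb K (k y) := by
        intro l hl
        rw [← hka] at hl
        exact mem_stb.mpr ⟨(mem_stb.mp hl).1, fix_of_conj hyfix hk l hl⟩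
      apply Subgroup.eq_of_le_of_card_ge hle
      obtain ⟨k0, hk0, hk0f⟩ := htr f1 (k y)
      rw [← hk0f, card_stb_conj hk0 f1]
    have hcardeq := card_orb_eq_of_stb_eq hstb a
    rw [horbU f1 hf1U, hU6] at hcardeq
    have hf2U : k y ∈ U := by
      rw [Finset.mem_insert, Finset.mem_singleton, not_or] at hf2T2
      rcases hclass (k y) hf2T2.1 (by rw [hy, Finset.mem_singleton]; exact hf2T2.2) with h' | h'
      · exact h'
      · rw [hout _ h', hOc16] at hcardeq
        omega
    have h2 : ({f1, k y} : Finset GolayPt) ⊆ U ∩ fixF g5 := by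
      intro x hx
      rw [Finset.mem_insert, Finset.mem_singleton] at hx
      rcases hx with rfl | rfl
      · exact hf1'
      · exact Finset.mem_inter.mpr ⟨hf2U, mem_fixF.mpr hf2fix⟩
    have h3 := Finset.card_le_card h2
    rw [Finset.card_pair hf21.symm, hUfix] at h3
    omega

/-- **subgroups of order 138240 stabilize a sextet** -/
theorem sextet_case (K : Subgroup (Equiv.Perm GolayPt)) (hK : K ≤ M24)
    (hcard : Nat.card K = 138240) :
    ∃ T : Finset GolayPt, T.card = 4 ∧ ∀ g ∈ K, g • sextOf T = sextOf T := by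
  obtain ⟨O, h⟩ := Setup.of_sylow K hK (by rw [hcard]; norm_num)
  rcases h.inv_or_trans with hinv | htr
  · exfalso
    have hle : K ≤ M24 ⊓ MulAction.stabilizer (Equiv.Perm GolayPt) O := by
      intro k hk
      rw [Subgroup.mem_inf, MulAction.mem_stabilizer_iff]
      exact ⟨hK hk, hinv.image_eq hk⟩
    have := Subgroup.card_dvd_of_le hle
    rw [hcard, card_stab_octad h.hO] at this
    norm_num at this
  · obtain ⟨a, ha⟩ := h.exists_mem
    obtain ⟨u0, hu0⟩ := h.exists_not_mem
    obtain ⟨hsub, haΘ, hcases⟩ := h.theta ha hu0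
    have hcarda : Nat.card (stb K a) = 5760 := by
      have := card_eq_of_trans htr a
      omega
    rcases hcases with ⟨h16, hinvO, hΘO⟩ | ⟨h20, h23⟩
    · exfalso
      refine case16_false h htr ha hcarda hinvO ?_
      intro u hu
      rw [← hΘO]
      exact orb_eq_of_mem (hsub (Finset.mem_compl.mpr hu))
    · have hdvd := card_orb_dvd (stb K a) u0
      rw [hcarda] at hdvd
      have h20' : (orb (stb K a) u0).card = 20 := by
        generalize (orb (stb K a) u0).card = n at *
        interval_cases n <;> omega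
      exact tetrad_case hK htr hcarda (inv_orb _ _) h20' haΘ

end Cfsg.Agent.Lib.Helper6.M24Idx
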