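import Mathlib

set_option autoImplicit false
set_option linter.unusedSectionVars false

/-! # Orbits of subgroups of a finite symmetric group, as finsets -/

namespace Cfsg.Agent.Lib.Helper6.M24Idx

open scoped Pointwise

section generic

variable {X : Type*} [Fintype X] [DecidableEq X]

theorem perm_apply_inv {Y : Type*} (f : Equiv.Perm Y) (x : Y) : f (f⁻¹ x) = x := by simp

theorem perm_inv_apply {Y : Type*} (f : Equiv.Perm Y) (x : Y) : f⁻¹ (f x) = x := by simp

/-- a finset is invariant under a subgroup of permutations -/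
def Inv (K : Subgroup (Equiv.Perm X)) (s : Finset X) : Prop := ∀ k ∈ K, ∀ x ∈ s, k x ∈ s

/-- a subgroup of permutations is transitive on a finset -/
def Trans (K : Subgroup (Equiv.Perm X)) (s : Finset X) : Prop :=
  ∀ x ∈ s, ∀ y ∈ s, ∃ k ∈ K, k x = y

open Classical in
/-- the orbit of a point, as a finset -/
noncomputable def orb (K : Subgroup (Equiv.Perm X)) (x : X) : Finset X :=
  Finset.univ.filter fun y => ∃ k ∈ K, k x = y

/-- the stabilizer of a point inside a subgroup -/
def stb (K : Subgroup (Equiv.Perm X)) (x : X) : Subgroup (Equiv.Perm X) :=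
  K ⊓ MulAction.stabilizer (Equiv.Perm X) x

theorem mem_orb {K : Subgroup (Equiv.Perm X)} {x y : X} : y ∈ orb K x ↔ ∃ k ∈ K, k x = y := by
  classical
  unfold orb
  rw [Finset.mem_filter]
  exact ⟨fun h => h.2, fun h => ⟨Finset.mem_univ _, h⟩⟩

theorem mem_stb {K : Subgroup (Equiv.Perm X)} {x : X} {k : Equiv.Perm X} :
    k ∈ stb K x ↔ k ∈ K ∧ k x = x := by
  unfold stb
  rw [Subgroup.mem_inf, MulAction.mem_stabilizer_iff, Equiv.Perm.smul_def]

theorem stb_le (K : Subgroup (Equiv.Perm X)) (x : X) : stb K x ≤ K := inf_le_left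

theorem self_mem_orb (K : Subgroup (Equiv.Perm X)) (x : X) : x ∈ orb K x :=
  mem_orb.mpr ⟨1, K.one_mem, rfl⟩

theorem inv_orb (K : Subgroup (Equiv.Perm X)) (x : X) : Inv K (orb K x) := by
  intro k hk y hy
  obtain ⟨l, hl, rfl⟩ := mem_orb.mp hy
  exact mem_orb.mpr ⟨k * l, K.mul_mem hk hl, rfl⟩

theorem trans_orb (K : Subgroup (Equiv.Perm X)) (x : X) : Trans K (orb K x) := by
  intro y hy z hz
  obtain ⟨l, hl, rfl⟩ := mem_orb.mp hy
  obtain ⟨m, hm, rfl⟩ := mem_orb.mp hz
  refine ⟨m * l⁻¹, K.mul_mem hm (K.inv_mem hl), ?_⟩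
  simp

theorem Inv.mem_iff {K : Subgroup (Equiv.Perm X)} {s : Finset X} (h : Inv K s) {k : Equiv.Perm X}
    (hk : k ∈ K) (x : X) : k x ∈ s ↔ x ∈ s := by
  constructor
  · intro hx
    have := h k⁻¹ (K.inv_mem hk) _ hx
    simpa using this
  · exact h k hk x

theorem Inv.compl {K : Subgroup (Equiv.Perm X)} {s : Finset X} (h : Inv K s) : Inv K sᶜ := by
  intro k hk x hx
  rw [Finset.mem_compl] at hx ⊢
  rwa [h.mem_iff hk]

theorem Inv.sdiff {K : Subgroup (Equiv.Perm X)} {s t : Finset X} (hs : Inv K s) (ht : Inv K t) :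
    Inv K (s \ t) := by
  intro k hk x hx
  rw [Finset.mem_sdiff] at hx ⊢
  exact ⟨hs k hk x hx.1, by rw [ht.mem_iff hk]; exact hx.2⟩

theorem Inv.inter {K : Subgroup (Equiv.Perm X)} {s t : Finset X} (hs : Inv K s) (ht : Inv K t) :
    Inv K (s ∩ t) := by
  intro k hk x hx
  rw [Finset.mem_inter] at hx ⊢
  exact ⟨hs k hk x hx.1, ht k hk x hx.2⟩

theorem Inv.union {K : Subgroup (Equiv.Perm X)} {s t : Finset X} (hs : Inv K s) (ht : Inv K t) :
    Inv K (s ∪ t) := by
  intro k hk x hx
  rw [Finset.mem_union] at hx ⊢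
  rcases hx with hx | hx
  · exact Or.inl (hs k hk x hx)
  · exact Or.inr (ht k hk x hx)

theorem Inv.mono {K L : Subgroup (Equiv.Perm X)} {s : Finset X} (h : Inv K s) (hL : L ≤ K) :
    Inv L s := fun k hk x hx => h k (hL hk) x hx

theorem Inv.image_eq {K : Subgroup (Equiv.Perm X)} {s : Finset X} (h : Inv K s) {k : Equiv.Perm X}
    (hk : k ∈ K) : s.image k = s := by
  apply Finset.eq_of_subset_of_card_le
  · intro y hy
    obtain ⟨x, hx, rfl⟩ := Finset.mem_image.mp hy
    exact h k hk x hx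
  · rw [Finset.card_image_of_injective _ k.injective]

theorem inv_of_image_eq {K : Subgroup (Equiv.Perm X)} {s : Finset X}
    (h : ∀ k ∈ K, s.image k = s) : Inv K s := by
  intro k hk x hx
  rw [← h k hk]
  exact Finset.mem_image_of_mem _ hx

theorem Inv.orb_subset {K : Subgroup (Equiv.Perm X)} {s : Finset X} (h : Inv K s) {x : X}
    (hx : x ∈ s) : orb K x ⊆ s := by
  intro y hy
  obtain ⟨k, hk, rfl⟩ := mem_orb.mp hy
  exact h k hk x hx

theorem eq_orb_of_inv_of_trans {K : Subgroup (Equiv.Perm X)} {s : Finset X} (h : Inv K s)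
    (ht : Trans K s) {x : X} (hx : x ∈ s) : s = orb K x := by
  apply Finset.Subset.antisymm
  · intro y hy
    obtain ⟨k, hk, rfl⟩ := ht x hx y hy
    exact mem_orb.mpr ⟨k, hk, rfl⟩
  · exact h.orb_subset hx

theorem orb_eq_of_mem {K : Subgroup (Equiv.Perm X)} {x y : X} (h : y ∈ orb K x) :
    orb K y = orb K x :=
  (eq_orb_of_inv_of_trans (inv_orb K x) (trans_orb K x) h).symm

/-- the general orbit-stabilizer theorem for a subgroup of an acting group -/
theorem card_eq_orbit_mul {G Y : Type*} [Group G] [MulAction G Y] (K : Subgroup G) (y : Y) :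
    Nat.card K = (MulAction.orbit K y).ncard *
      Nat.card (K ⊓ MulAction.stabilizer G y : Subgroup G) := by
  have h1 := Subgroup.card_mul_index (MulAction.stabilizer K y)
  rw [MulAction.index_stabilizer] at h1
  have h2 : MulAction.stabilizer K y = (K ⊓ MulAction.stabilizer G y).subgroupOf K := by
    ext k
    rw [Subgroup.mem_subgroupOf, Subgroup.mem_inf, MulAction.mem_stabilizer_iff,
      MulAction.mem_stabilizer_iff]
    constructor
    · intro h
      exact ⟨k.2, h⟩
    · intro h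
      exact h.2
  have h3 : Nat.card ((K ⊓ MulAction.stabilizer G y).subgroupOf K) =
      Nat.card (K ⊓ MulAction.stabilizer G y : Subgroup G) :=
    Nat.card_congr (Subgroup.subgroupOfEquivOfLe inf_le_left).toEquiv
  rw [h2, h3] at h1
  rw [← h1, mul_comm]

theorem orbit_coe (K : Subgroup (Equiv.Perm X)) (x : X) :
    MulAction.orbit K x = ((orb K x : Finset X) : Set X) := by
  ext y
  rw [MulAction.mem_orbit_iff, Finset.mem_coe, mem_orb]
  constructor
  · rintro ⟨k, rfl⟩
    exact ⟨k, k.2, rfl⟩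
  · rintro ⟨k, hk, rfl⟩
    exact ⟨⟨k, hk⟩, rfl⟩

/-- orbit-stabilizer for points -/
theorem card_eq_orb_mul_stb (K : Subgroup (Equiv.Perm X)) (x : X) :
    Nat.card K = (orb K x).card * Nat.card (stb K x) := by
  have := card_eq_orbit_mul K x
  rw [orbit_coe, Set.ncard_coe_finset] at this
  exact this

theorem card_orb_dvd (K : Subgroup (Equiv.Perm X)) (x : X) : (orb K x).card ∣ Nat.card K :=
  ⟨_, card_eq_orb_mul_stb K x⟩

theorem card_stb_dvd (K : Subgroup (Equiv.Perm X)) (x : X) : Nat.card (stb K x) ∣ Nat.card K :=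
  Subgroup.card_dvd_of_le (stb_le K x)

end generic

end Cfsg.Agent.Lib.Helper6.M24Idx
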