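import Cfsg.Agent.Lib.Helper6.M24Idx.Perm1

set_option autoImplicit false
set_option linter.unusedSectionVars false

/-! # Fixed points of elements of prime order, conjugation, blocks -/

namespace Cfsg.Agent.Lib.Helper6.M24Idx

open scoped Pointwise

section generic

variable {X : Type*} [Fintype X] [DecidableEq X]

/-- the fixed points of a permutation -/
def fixF (g : Equiv.Perm X) : Finset X := Finset.univ.filter fun x => g x = x

theorem mem_fixF {g : Equiv.Perm X} {x : X} : x ∈ fixF g ↔ g x = x := by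
  unfold fixF
  rw [Finset.mem_filter]
  exact ⟨fun h => h.2, fun h => ⟨Finset.mem_univ _, h⟩⟩

/-- an invariant set of a permutation of prime order `p` has, modulo `p`, as many points as it
has fixed points of the permutation -/
theorem card_modEq_fix (g : Equiv.Perm X) (p : ℕ) [hp : Fact p.Prime] (hg : g ^ p = 1)
    (s : Finset X) (hs : ∀ x ∈ s, g x ∈ s) :
    s.card ≡ (s ∩ fixF g).card [MOD p] := by
  classical
  let f : Function.End {x // x ∈ s} := fun x => ⟨g x.1, hs x.1 x.2⟩
  have hpow : ∀ (n : ℕ) (x : {x // x ∈ s}), ((f ^ n) x).1 = (g ^ n) x.1 := by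
    intro n
    induction n with
    | zero => intro x; rfl
    | succ n ih =>
      intro x
      rw [pow_succ', pow_succ']
      show (f ((f ^ n) x)).1 = g ((g ^ n) x.1)
      rw [← ih x]
  have hf : f ^ p ^ 1 = 1 := by
    rw [pow_one]
    funext x
    apply Subtype.ext
    rw [hpow, hg]
    rfl
  have h1 := Equiv.Perm.card_fixedPoints_modEq (p := p) (n := 1) hf
  rw [Fintype.card_coe] at h1
  have h2 : Fintype.card (Function.fixedPoints f) = (s ∩ fixF g).card := by
    rw [← Fintype.card_coe (s ∩ fixF g)]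
    apply Fintype.card_congr
    refine ⟨fun x => ⟨x.1.1, ?_⟩, fun y => ⟨⟨y.1, (Finset.mem_inter.mp y.2).1⟩, ?_⟩, ?_, ?_⟩
    · rw [Finset.mem_inter, mem_fixF]
      refine ⟨x.1.2, ?_⟩
      have := x.2
      exact congrArg Subtype.val this
    · show f _ = _
      apply Subtype.ext
      exact mem_fixF.mp (Finset.mem_inter.mp y.2).2
    · intro x
      rfl
    · intro y
      rfl
  rw [h2] at h1
  exact h1

theorem image_fixF_inter (g : Equiv.Perm X) (s : Finset X) : ∀ x ∈ s ∩ fixF g, g x = x := by
  intro x hx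
  exact mem_fixF.mp (Finset.mem_inter.mp hx).2

/-- conjugation transports point stabilizers -/
theorem conj_mem_stb {K : Subgroup (Equiv.Perm X)} {h k : Equiv.Perm X} {a : X} (hh : h ∈ K)
    (hk : k ∈ stb K a) : h * k * h⁻¹ ∈ stb K (h a) := by
  rw [mem_stb] at hk ⊢
  refine ⟨K.mul_mem (K.mul_mem hh hk.1) (K.inv_mem hh), ?_⟩
  simp [hk.2]

theorem conj_mem_stb' {K : Subgroup (Equiv.Perm X)} {h k : Equiv.Perm X} {a : X} (hh : h ∈ K)
    (hk : k ∈ stb K (h a)) : h⁻¹ * k * h ∈ stb K a := by
  have := conj_mem_stb (K.inv_mem hh) hk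
  simpa using this

/-- point stabilizers of points in one orbit have the same order -/
theorem card_stb_conj {K : Subgroup (Equiv.Perm X)} {h : Equiv.Perm X} (hh : h ∈ K) (a : X) :
    Nat.card (stb K (h a)) = Nat.card (stb K a) := by
  apply Nat.card_congr
  refine ⟨fun k => ⟨h⁻¹ * k.1 * h, conj_mem_stb' hh k.2⟩, fun k => ⟨h * k.1 * h⁻¹, conj_mem_stb hh k.2⟩,
    ?_, ?_⟩
  · intro k
    apply Subtype.ext
    show h * (h⁻¹ * k.1 * h) * h⁻¹ = k.1
    group
  · intro k
    apply Subtype.ext
    show h⁻¹ * (h * k.1 * h⁻¹) * h = k.1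
    group

/-- orbits of conjugate stabilizers -/
theorem orb_stb_conj {K : Subgroup (Equiv.Perm X)} {h : Equiv.Perm X} (hh : h ∈ K) (a u : X) :
    orb (stb K (h a)) (h u) = (orb (stb K a) u).image h := by
  ext y
  rw [mem_orb, Finset.mem_image]
  constructor
  · rintro ⟨k, hk, rfl⟩
    refine ⟨(h⁻¹ * k * h) u, mem_orb.mpr ⟨_, conj_mem_stb' hh hk, rfl⟩, ?_⟩
    simp
  · rintro ⟨z, hz, rfl⟩
    obtain ⟨k, hk, rfl⟩ := mem_orb.mp hz
    exact ⟨h * k * h⁻¹, conj_mem_stb hh hk, by simp⟩

theorem card_orb_stb_conj {K : Subgroup (Equiv.Perm X)} {h : Equiv.Perm X} (hh : h ∈ K) (a u : X) :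
    (orb (stb K (h a)) (h u)).card = (orb (stb K a) u).card := by
  rw [orb_stb_conj hh, Finset.card_image_of_injective _ h.injective]

/-- the two-point stabilizer does not depend on the order of the points -/
theorem stb_stb_comm (K : Subgroup (Equiv.Perm X)) (a b : X) : stb (stb K a) b = stb (stb K b) a := by
  ext k
  simp only [mem_stb]
  tauto

/-- in a transitive group the orbit of `b` under the stabilizer of `a` is as long as the orbit of
`a` under the stabilizer of `b` -/
theorem card_orb_stb_swap {K : Subgroup (Equiv.Perm X)} (a b : X)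
    (hab : Nat.card (stb K a) = Nat.card (stb K b)) :
    (orb (stb K a) b).card = (orb (stb K b) a).card := by
  have h1 := card_eq_orb_mul_stb (stb K a) b
  have h2 := card_eq_orb_mul_stb (stb K b) a
  rw [stb_stb_comm K b a] at h2
  rw [hab, h2] at h1
  have hpos : 0 < Nat.card (stb (stb K a) b) := Nat.card_pos
  exact (Nat.eq_of_mul_eq_mul_right hpos h1).symm

/-- a subgroup of a point stabilizer that fixes a second point gives a bound for the orbit of
that point -/
theorem card_orb_le_of_le {K L : Subgroup (Equiv.Perm X)} (hL : L ≤ K) (c : X)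
    (hc : ∀ k ∈ L, k c = c) : (orb K c).card * Nat.card L ≤ Nat.card K := by
  have h1 := card_eq_orb_mul_stb K c
  have h2 : L ≤ stb K c := fun k hk => mem_stb.mpr ⟨hL hk, hc k hk⟩
  have h3 := Subgroup.card_le_of_le h2
  rw [h1]
  exact Nat.mul_le_mul_left _ h3

/-- Cauchy's theorem for subgroups, in a convenient form -/
theorem exists_prime_order {G : Type*} [Group G] [Finite G] (K : Subgroup G) (p : ℕ)
    [hp : Fact p.Prime] (hd : p ∣ Nat.card K) : ∃ g ∈ K, g ^ p = 1 ∧ g ≠ 1 := by
  obtain ⟨g, hg⟩ := exists_prime_orderOf_dvd_card' p hd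
  refine ⟨g.1, g.2, ?_, ?_⟩
  · have : g ^ p = 1 := by rw [← hg, pow_orderOf_eq_one]
    have := congrArg Subtype.val this
    simpa using this
  · intro h1
    have : g = 1 := Subtype.ext h1
    rw [this, orderOf_one] at hg
    exact hp.out.one_lt.ne hg

/-- **the block lemma**: in a transitive group, a set `T` containing `a` such that every element
moving `a` into `T` stabilizes `T`, is a block -/
theorem block_of_point {K : Subgroup (Equiv.Perm X)} (htr : ∀ x y : X, ∃ k ∈ K, k x = y)
    {T : Finset X} {a : X} (ha : a ∈ T) (hT : ∀ h ∈ K, h a ∈ T → T.image h = T)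
    {h : Equiv.Perm X} (hh : h ∈ K) {x : X} (hx : x ∈ T) (hhx : h x ∈ T) : T.image h = T := by
  obtain ⟨k, hk, rfl⟩ := htr a x
  have h1 := hT k hk hx
  have h2 := hT (h * k) (K.mul_mem hh hk) hhx
  calc T.image h = (T.image k).image h := by rw [h1]
    _ = T.image (h * k) := by rw [Finset.image_image]; rfl
    _ = T := h2

end generic

end Cfsg.Agent.Lib.Helper6.M24Idx
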