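import Cfsg.Agent.Lib.Helper6.M24Idx.Main

set_option autoImplicit false
set_option linter.unusedSectionVars false

/-! # Subgroups of the point stabilizer containing a Sylow 2-subgroup of it -/

namespace Cfsg.Agent.Lib.Helper6.M24Idx

open Cfsg
open Cfsg.Agent.Lib.Helper9.M24 (image_mem_octads eq_one_of_fixes card_M24 natOfPt tget baseOctad
  baseOctad_mem)
open Cfsg.Agent.Lib.Helper6.M24Syl

open scoped Pointwise

/-- **subgroups of a point stabilizer of order divisible by `2^7`** contain a subgroup fixing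
pointwise an octad through the point and transitive on the complement of the octad -/
theorem sylow_pkg_pt (K : Subgroup (Equiv.Perm GolayPt)) (hK : K ≤ M24) (x : GolayPt)
    (hx : ∀ k ∈ K, k x = x) (h2 : 2 ^ 7 ∣ Nat.card K) :
    ∃ O ∈ octads, x ∈ O ∧
      (∀ u, u ∉ O → ∀ v, v ∉ O → ∃ q ∈ K, (∀ y ∈ O, q y = y) ∧ q u = v) := by
  haveI : Fact (Nat.Prime 2) := ⟨Nat.prime_two⟩
  -- a Sylow 2-subgroup of `K`
  obtain ⟨P⟩ : Nonempty (Sylow 2 K) := inferInstance
  have hP1 : 2 ^ 7 ∣ Nat.card (P : Subgroup K) := by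
    rw [Sylow.card_eq_multiplicity]
    apply pow_dvd_pow
    have hpos : Nat.card K ≠ 0 := Nat.card_pos.ne'
    exact (Nat.Prime.pow_dvd_iff_le_factorization Nat.prime_two hpos).mp h2
  set P' : Subgroup (Equiv.Perm GolayPt) := (P : Subgroup K).map K.subtype with hP'
  have hP'K : P' ≤ K := by
    rintro _ ⟨x, _, rfl⟩
    exact x.2
  have hP'card : Nat.card P' = Nat.card (P : Subgroup K) :=
    Nat.card_congr ((P : Subgroup K).equivMapOfInjective K.subtype K.subtype_injective).symm.toEquiv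
  have hP'2 : IsPGroup 2 P' := P.2.map K.subtype
  have hP'128 : 128 ≤ Nat.card P' := by
    rw [hP'card]
    exact Nat.le_of_dvd Nat.card_pos hP1
  -- Sylow subgroups of the big group
  have hcard0 : Nat.card ((C gen 0 10).subgroupOf M24) = 2 ^ (Nat.card M24).factorization 2 := by
    rw [factorization_M24, Nat.card_congr (Subgroup.subgroupOfEquivOfLe (C_le_M24 0 10)).toEquiv,
      card_S0]
    norm_num
  obtain ⟨P₀, hP₀⟩ : ∃ P₀ : Sylow 2 M24, (P₀ : Subgroup M24) = (C gen 0 10).subgroupOf M24 :=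
    ⟨Sylow.ofCard _ hcard0, rfl⟩
  have hP'sub2 : IsPGroup 2 (P'.subgroupOf M24) := by
    have : IsPGroup 2 (P'.comap M24.subtype) :=
      hP'2.comap_of_injective M24.subtype M24.subtype_injective
    exact this
  obtain ⟨P₁, hP₁⟩ := hP'sub2.exists_le_sylow
  obtain ⟨h, hh⟩ := MulAction.exists_smul_eq M24 P₀ P₁
  -- the elements of `P'` are conjugates of elements of the explicit Sylow subgroup
  have hconj : ∀ p ∈ P', ∃ s ∈ C gen 0 10,
      p = (h : Equiv.Perm GolayPt) * s * (h : Equiv.Perm GolayPt)⁻¹ := by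
    intro p hp
    have h1 : (⟨p, hK (hP'K hp)⟩ : M24) ∈ (P₁ : Subgroup M24) := by
      apply hP₁
      rw [Subgroup.mem_subgroupOf]
      exact hp
    rw [← hh, Sylow.coe_subgroup_smul, Subgroup.mem_smul_pointwise_iff_exists] at h1
    obtain ⟨s, hs, hsp⟩ := h1
    rw [hP₀, Subgroup.mem_subgroupOf] at hs
    refine ⟨s, hs, ?_⟩
    have := congrArg Subtype.val hsp
    simpa using this.symm
  set γ : Equiv.Perm GolayPt := (h : Equiv.Perm GolayPt) with hγdef
  have hγM : γ ∈ M24 := h.2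
  -- the map into the stabilizer of the point in the explicit Sylow subgroup
  have hφmem : ∀ p ∈ P', γ⁻¹ * p * γ ∈ stb (C gen 0 10) (γ⁻¹ x) := by
    intro p hp
    obtain ⟨s, hs, hps⟩ := hconj p hp
    rw [mem_stb]
    constructor
    · rw [hps]
      have : γ⁻¹ * (γ * s * γ⁻¹) * γ = s := by group
      rw [this]
      exact hs
    · rw [Equiv.Perm.mul_apply, Equiv.Perm.mul_apply, perm_apply_inv, hx p (hP'K hp)]
  let φ : P' → stb (C gen 0 10) (γ⁻¹ x) := fun p => ⟨γ⁻¹ * p.1 * γ, hφmem p.1 p.2⟩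
  have hφinj : Function.Injective φ := by
    intro p q hpq
    have h1 : γ⁻¹ * p.1 * γ = γ⁻¹ * q.1 * γ := congrArg Subtype.val hpq
    apply Subtype.ext
    have h2 : p.1 = γ * (γ⁻¹ * p.1 * γ) * γ⁻¹ := by group
    have h3 : q.1 = γ * (γ⁻¹ * q.1 * γ) * γ⁻¹ := by group
    rw [h2, h1, ← h3]
  have hle : Nat.card P' ≤ Nat.card (stb (C gen 0 10) (γ⁻¹ x)) :=
    Nat.card_le_card_of_injective φ hφinj
  have hos := card_eq_orb_mul_stb (C gen 0 10) (γ⁻¹ x)
  rw [card_S0] at hos
  have hx' : γ⁻¹ x ∈ baseOctad := by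
    by_contra hcon
    have hsub : baseOctadᶜ ⊆ orb (C gen 0 10) (γ⁻¹ x) := by
      intro v hv
      rw [Finset.mem_compl] at hv
      obtain ⟨s, hs, hsv⟩ := Q_trans _ v hcon hv
      exact mem_orb.mpr ⟨s, C_mono gen le_rfl (by norm_num) hs, hsv⟩
    have h1 := Finset.card_le_card hsub
    rw [Finset.card_compl, card_pts, card_octad baseOctad_mem] at h1
    nlinarith
  have hstb128 : Nat.card (stb (C gen 0 10) (γ⁻¹ x)) ≤ 128 := by
    have hsub : baseOctad ⊆ orb (C gen 0 10) (γ⁻¹ x) := by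
      intro v hv
      obtain ⟨s, hs, hsv⟩ := S0_trans _ v hx' hv
      exact mem_orb.mpr ⟨s, hs, hsv⟩
    have h1 := Finset.card_le_card hsub
    rw [card_octad baseOctad_mem] at h1
    nlinarith
  have hφbij : Function.Bijective φ :=
    hφinj.bijective_of_nat_card_le (hstb128.trans hP'128)
  -- conjugates of the elements fixing the base octad pointwise lie in `K`
  have hQK : ∀ s ∈ C gen 0 4, γ * s * γ⁻¹ ∈ K := by
    intro s hs
    have hs' : s ∈ stb (C gen 0 10) (γ⁻¹ x) :=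
      mem_stb.mpr ⟨C_mono gen le_rfl (by norm_num) hs, Q_fix s hs _ hx'⟩
    obtain ⟨p, hp⟩ := hφbij.2 ⟨s, hs'⟩
    have h1 : γ⁻¹ * p.1 * γ = s := congrArg Subtype.val hp
    have h2 : γ * s * γ⁻¹ = p.1 := by
      rw [← h1]
      group
    rw [h2]
    exact hP'K p.2
  refine ⟨baseOctad.image γ, image_mem_octads hγM baseOctad_mem, ?_, ?_⟩
  · rw [Finset.mem_image]
    exact ⟨_, hx', perm_apply_inv γ x⟩
  · intro u hu v hv
    have hu' : γ⁻¹ u ∉ baseOctad := by
      intro hcon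
      apply hu
      rw [Finset.mem_image]
      exact ⟨_, hcon, by simp⟩
    have hv' : γ⁻¹ v ∉ baseOctad := by
      intro hcon
      apply hv
      rw [Finset.mem_image]
      exact ⟨_, hcon, by simp⟩
    obtain ⟨s, hs, hsu⟩ := Q_trans _ _ hu' hv'
    refine ⟨γ * s * γ⁻¹, hQK s hs, ?_, ?_⟩
    · intro y hy
      obtain ⟨w, hw, rfl⟩ := Finset.mem_image.mp hy
      have := Q_fix s hs w hw
      rw [Equiv.Perm.mul_apply, Equiv.Perm.mul_apply, perm_inv_apply, this]
    · rw [Equiv.Perm.mul_apply, Equiv.Perm.mul_apply, hsu, perm_apply_inv]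

end Cfsg.Agent.Lib.Helper6.M24Idx
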