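import Cfsg.Agent.Lib.Helper6.M24Idx.Pt1

set_option autoImplicit false
set_option linter.unusedSectionVars false

/-! # Subgroups of index 253 of the point stabilizer -/

namespace Cfsg.Agent.Lib.Helper6.M24Idx

open Cfsg
open Cfsg.Agent.Lib.Helper9.M24 (image_mem_octads card_M24)

open scoped Pointwise

/-- **subgroups of order 40320 of a point stabilizer** stabilize a pair of points or an octad
through the point -/
theorem pt_case (K : Subgroup (Equiv.Perm GolayPt)) (hK : K ≤ M24) (x : GolayPt)
    (hx : ∀ k ∈ K, k x = x) (hcard : Nat.card K = 40320) :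
    (∃ s : Finset GolayPt, s.card = 2 ∧ x ∉ s ∧ Inv K s) ∨ ∃ O ∈ octads, x ∈ O ∧ Inv K O := by
  obtain ⟨O, hO, hxO, hQ⟩ := sylow_pkg_pt K hK x hx (by rw [hcard]; norm_num)
  obtain ⟨u0, hu0⟩ : ∃ u, u ∉ O := by
    have := card_octad hO
    by_contra hcon
    push Not at hcon
    have h1 : O = Finset.univ := Finset.eq_univ_iff_forall.mpr hcon
    rw [h1, Finset.card_univ, card_pts] at this
    omega
  have hsub : Oᶜ ⊆ orb K u0 := by
    intro v hv
    rw [Finset.mem_compl] at hv
    obtain ⟨q, hq, _, hqu⟩ := hQ u0 hu0 v hv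
    exact mem_orb.mpr ⟨q, hq, hqu⟩
  have hxΘ : x ∉ orb K u0 := by
    intro hcon
    obtain ⟨k, hk, hku⟩ := mem_orb.mp hcon
    have : u0 = x := k.injective (hku.trans (hx k hk).symm)
    exact hu0 (this ▸ hxO)
  have hRO : (orb K u0)ᶜ ⊆ O := by
    intro y hy
    by_contra hyO
    exact (Finset.mem_compl.mp hy) (hsub (Finset.mem_compl.mpr hyO))
  have hRinv : Inv K (orb K u0)ᶜ := (inv_orb _ _).compl
  have hcR : (orb K u0)ᶜ.card + (orb K u0).card = 24 := by
    rw [Finset.card_compl, card_pts]
    have := Finset.card_le_univ (orb K u0)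
    rw [card_pts] at this
    omega
  have hxR : x ∈ (orb K u0)ᶜ := Finset.mem_compl.mpr hxΘ
  have hR1 : 1 ≤ (orb K u0)ᶜ.card := Finset.card_pos.mpr ⟨x, hxR⟩
  by_cases h5 : 5 ≤ (orb K u0)ᶜ.card
  · right
    exact ⟨O, hO, hxO, inv_octad_of_inv hK hO h5 hRO hRinv⟩
  · left
    have hdvd := card_orb_dvd K u0
    rw [hcard] at hdvd
    have hmod7 := card_orb_mod_seven hK hx (by rw [hcard]; norm_num) (inv_orb K u0) hxΘ
    have h21 : (orb K u0).card = 21 := by
      have h20 : 20 ≤ (orb K u0).card := by omega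
      have h23 : (orb K u0).card ≤ 23 := by omega
      generalize (orb K u0).card = n at *
      interval_cases n <;> omega
    have hc3 : (orb K u0)ᶜ.card = 3 := by omega
    refine ⟨(orb K u0)ᶜ.erase x, ?_, Finset.notMem_erase x _, ?_⟩
    · rw [Finset.card_erase_of_mem hxR, hc3]
    · intro k hk y hy
      rw [Finset.mem_erase] at hy ⊢
      exact ⟨fun h' => hy.1 (k.injective (h'.trans (hx k hk).symm)), hRinv k hk y hy.2⟩

/-- the stabilizer of an octad is transitive on it -/
theorem stab_octad_trans {O : Finset GolayPt} (hO : O ∈ octads) {x z : GolayPt} (hx : x ∈ O)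
    (hz : z ∈ O) : ∃ g ∈ M24, O.image g = O ∧ g x = z := by
  by_cases hxz : x = z
  · exact ⟨1, Subgroup.one_mem _, by simp, by simpa using hxz⟩
  have hc : 3 ≤ ((O.erase x).erase z).card := by
    rw [Finset.card_erase_of_mem (Finset.mem_erase.mpr ⟨fun h => hxz h.symm, hz⟩),
      Finset.card_erase_of_mem hx, card_octad hO]
    norm_num
  obtain ⟨R3, hR3, hR3c⟩ := Finset.exists_subset_card_eq hc
  have hR3x : x ∉ R3 := fun h => by
    have := Finset.mem_of_mem_erase (hR3 h)
    exact Finset.notMem_erase x O this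
  have hR3z : z ∉ R3 := fun h => Finset.notMem_erase z _ (hR3 h)
  have hR3O : R3 ⊆ O := fun y hy => Finset.mem_of_mem_erase (Finset.mem_of_mem_erase (hR3 hy))
  obtain ⟨g, hg, hmap⟩ := trans_list ([x, z] ++ R3.toList) ([z, x] ++ R3.toList)
    (by
      rw [List.nodup_append]
      refine ⟨by simp [hxz], Finset.nodup_toList R3, ?_⟩
      intro a ha b hb hab
      rw [Finset.mem_toList] at hb
      simp only [List.mem_cons, List.not_mem_nil, or_false] at ha
      rcases ha with rfl | rfl
      · exact hR3x (hab ▸ hb)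
      · exact hR3z (hab ▸ hb))
    (by
      rw [List.nodup_append]
      refine ⟨by simp [Ne.symm hxz], Finset.nodup_toList R3, ?_⟩
      intro a ha b hb hab
      rw [Finset.mem_toList] at hb
      simp only [List.mem_cons, List.not_mem_nil, or_false] at ha
      rcases ha with rfl | rfl
      · exact hR3z (hab ▸ hb)
      · exact hR3x (hab ▸ hb))
    (by simp) (by simp [hR3c])
  rw [List.map_append] at hmap
  have h1 := List.append_inj hmap (by simp)
  have hgx : g x = z := by
    have := h1.1
    simp only [List.map_cons, List.map_nil, List.cons.injEq, and_true] at this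
    exact this.1
  have hgz : g z = x := by
    have := h1.1
    simp only [List.map_cons, List.map_nil, List.cons.injEq, and_true] at this
    exact this.2
  have hgR : ∀ r ∈ R3, g r = r := fun r hr => fix_of_map_eq g _ h1.2 r (Finset.mem_toList.mpr hr)
  refine ⟨g, hg, ?_, hgx⟩
  have hO' : O.image g ∈ octads := image_mem_octads hg hO
  have hc5 : 5 ≤ (insert x (insert z R3)).card := by
    rw [Finset.card_insert_of_notMem, Finset.card_insert_of_notMem hR3z, hR3c]
    rw [Finset.mem_insert, not_or]
    exact ⟨hxz, hR3x⟩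
  have hs1 : insert x (insert z R3) ⊆ O := by
    intro y hy
    rw [Finset.mem_insert, Finset.mem_insert] at hy
    rcases hy with rfl | rfl | hy
    · exact hx
    · exact hz
    · exact hR3O hy
  have hs2 : insert x (insert z R3) ⊆ O.image g := by
    intro y hy
    rw [Finset.mem_insert, Finset.mem_insert] at hy
    rw [Finset.mem_image]
    rcases hy with rfl | rfl | hy
    · exact ⟨z, hz, hgz⟩
    · exact ⟨x, hx, hgx⟩
    · exact ⟨y, hR3O hy, hgR y hy⟩
  exact (octad_eq_of_five hO hO' hc5 hs1 hs2).symm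

/-- the order of the stabilizer of a point and a pair of other points -/
theorem card_stab_pt_pair (x : GolayPt) {s : Finset GolayPt} (hs : s.card = 2) (hxs : x ∉ s) :
    Nat.card (stb M24 x ⊓ MulAction.stabilizer (Equiv.Perm GolayPt) s :
      Subgroup (Equiv.Perm GolayPt)) ≤ 40320 := by
  have h := card_mul_stab_le (stb M24 x) s (Finset.powersetCard 2 (Finset.univ.erase x)) (by
    intro t ht
    rw [Finset.mem_powersetCard] at ht
    obtain ⟨b, c, hbc, rfl⟩ := Finset.card_eq_two.mp hs
    obtain ⟨b', c', hbc', rfl⟩ := Finset.card_eq_two.mp ht.2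
    simp only [Finset.mem_insert, Finset.mem_singleton, not_or] at hxs
    have hx' : x ∉ ({b', c'} : Finset GolayPt) := fun h => (Finset.mem_erase.mp (ht.1 h)).1 rfl
    simp only [Finset.mem_insert, Finset.mem_singleton, not_or] at hx'
    obtain ⟨g, hg, hmap⟩ := trans_list [x, b, c] [x, b', c']
      (by simp [hxs.1, hxs.2, hbc]) (by simp [hx'.1, hx'.2, hbc']) rfl (by simp)
    simp only [List.map_cons, List.map_nil, List.cons.injEq, and_true] at hmap
    refine ⟨g, mem_stb.mpr ⟨hg, hmap.1⟩, ?_⟩
    show Finset.image g {b, c} = {b', c'}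
    rw [Finset.image_insert, Finset.image_singleton, hmap.2.1, hmap.2.2])
  rw [Finset.card_powersetCard, Finset.card_erase_of_mem (Finset.mem_univ x), Finset.card_univ,
    card_pts, card_stb_M24] at h
  have : Nat.choose 23 2 = 253 := by decide
  rw [this] at h
  omega

/-- the order of the stabilizer of an octad and a point of it -/
theorem card_stab_pt_octad {O : Finset GolayPt} (hO : O ∈ octads) {x : GolayPt} (hx : x ∈ O) :
    Nat.card (stb M24 x ⊓ MulAction.stabilizer (Equiv.Perm GolayPt) O :
      Subgroup (Equiv.Perm GolayPt)) ≤ 40320 := by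
  have h := card_mul_stab_le (M24 ⊓ MulAction.stabilizer (Equiv.Perm GolayPt) O) x O (by
    intro z hz
    obtain ⟨g, hg, hgO, hgx⟩ := stab_octad_trans hO hx hz
    refine ⟨g, ?_, hgx⟩
    rw [Subgroup.mem_inf, MulAction.mem_stabilizer_iff]
    exact ⟨hg, hgO⟩)
  rw [card_octad hO, card_stab_octad hO] at h
  have heq : stb M24 x ⊓ MulAction.stabilizer (Equiv.Perm GolayPt) O =
      M24 ⊓ MulAction.stabilizer (Equiv.Perm GolayPt) O ⊓
        MulAction.stabilizer (Equiv.Perm GolayPt) x := by
    unfold stb
    exact inf_right_comm _ _ _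
  rw [heq]
  omega

end Cfsg.Agent.Lib.Helper6.M24Idx
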