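import Cfsg.Agent.Lib.Helper6.M24Idx.Pt2

set_option autoImplicit false
set_option linter.unusedSectionVars false

/-! # Subgroups of index 253 of the point stabilizer: the statement for subgroups of subgroups -/

namespace Cfsg.Agent.Lib.Helper6.M24Idx

open Cfsg
open Cfsg.Agent.Lib.Helper9.M24 (image_mem_octads card_M24)

open scoped Pointwise

/-- the image in the symmetric group of a subgroup of a point stabilizer -/
def img (x : GolayPt) (H : Subgroup ↥(MulAction.stabilizer M24 x)) :
    Subgroup (Equiv.Perm GolayPt) :=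
  (H.map (MulAction.stabilizer M24 x).subtype).map M24.subtype

theorem mem_img {x : GolayPt} {H : Subgroup ↥(MulAction.stabilizer M24 x)}
    (y : ↥(MulAction.stabilizer M24 x)) : ((y : M24) : Equiv.Perm GolayPt) ∈ img x H ↔ y ∈ H := by
  unfold img
  rw [show ((y : M24) : Equiv.Perm GolayPt) = M24.subtype (y : M24) from rfl,
    Subgroup.mem_map_iff_mem M24.subtype_injective,
    show (y : M24) = (MulAction.stabilizer M24 x).subtype y from rfl,
    Subgroup.mem_map_iff_mem (MulAction.stabilizer M24 x).subtype_injective]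

theorem img_le {x : GolayPt} (H : Subgroup ↥(MulAction.stabilizer M24 x)) : img x H ≤ M24 := by
  rintro _ ⟨y, _, rfl⟩
  exact y.2

theorem img_fix {x : GolayPt} (H : Subgroup ↥(MulAction.stabilizer M24 x)) :
    ∀ k ∈ img x H, k x = x := by
  rintro _ ⟨_, ⟨y, _, rfl⟩, rfl⟩
  exact y.2

theorem card_img {x : GolayPt} (H : Subgroup ↥(MulAction.stabilizer M24 x)) :
    Nat.card (img x H) = Nat.card H := by
  unfold img
  rw [Nat.card_congr (Subgroup.equivMapOfInjective _ M24.subtype
      M24.subtype_injective).symm.toEquiv,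
    Nat.card_congr (Subgroup.equivMapOfInjective _ (MulAction.stabilizer M24 x).subtype
      (MulAction.stabilizer M24 x).subtype_injective).symm.toEquiv]

theorem card_img_of_index {x : GolayPt} (H : Subgroup ↥(MulAction.stabilizer M24 x))
    (hH : H.index = 253) : Nat.card (img x H) = 40320 := by
  rw [card_img]
  have h1 := Subgroup.card_mul_index H
  have h2 : Nat.card (MulAction.stabilizer M24 x) = 10200960 := by
    rw [card_stabilizer_sub M24 x]
    exact card_stb_M24 x
  rw [hH, h2] at h1
  omega

/-- pulling back a stabilizer -/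
theorem eq_subgroupOf_of_img {Y : Type*} [MulAction (Equiv.Perm GolayPt) Y] {x : GolayPt}
    (H : Subgroup ↥(MulAction.stabilizer M24 x)) (y : Y)
    (h : img x H = stb M24 x ⊓ MulAction.stabilizer (Equiv.Perm GolayPt) y) :
    H = (MulAction.stabilizer M24 y).subgroupOf (MulAction.stabilizer M24 x) := by
  ext z
  rw [← mem_img z, h, Subgroup.mem_inf, Subgroup.mem_subgroupOf, MulAction.mem_stabilizer_iff,
    MulAction.mem_stabilizer_iff, mem_stb]
  constructor
  · intro hz
    exact hz.2
  · intro hz
    exact ⟨⟨z.1.2, z.2⟩, hz⟩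

/-- **subgroups of index 253 of the point stabilizer** -/
theorem pt_main (x : GolayPt) (H : Subgroup ↥(MulAction.stabilizer M24 x)) (hH : H.index = 253) :
    (∃ s : Finset GolayPt, s.card = 2 ∧ x ∉ s ∧
        H = (MulAction.stabilizer M24 s).subgroupOf (MulAction.stabilizer M24 x)) ∨
      ∃ o ∈ octads, x ∈ o ∧
        H = (MulAction.stabilizer M24 o).subgroupOf (MulAction.stabilizer M24 x) := by
  have hcard := card_img_of_index H hH
  rcases pt_case (img x H) (img_le H) x (img_fix H) hcard with ⟨s, hs, hxs, hinv⟩ | ⟨O, hO, hxO, hinv⟩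
  · left
    refine ⟨s, hs, hxs, eq_subgroupOf_of_img H s ?_⟩
    have hle : img x H ≤ stb M24 x ⊓ MulAction.stabilizer (Equiv.Perm GolayPt) s := by
      intro k hk
      rw [Subgroup.mem_inf, MulAction.mem_stabilizer_iff]
      exact ⟨mem_stb.mpr ⟨img_le H hk, img_fix H k hk⟩, hinv.image_eq hk⟩
    apply Subgroup.eq_of_le_of_card_ge hle
    rw [hcard]
    exact card_stab_pt_pair x hs hxs
  · right
    refine ⟨O, hO, hxO, eq_subgroupOf_of_img H O ?_⟩
    have hle : img x H ≤ stb M24 x ⊓ MulAction.stabilizer (Equiv.Perm GolayPt) O := by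
      intro k hk
      rw [Subgroup.mem_inf, MulAction.mem_stabilizer_iff]
      exact ⟨mem_stb.mpr ⟨img_le H hk, img_fix H k hk⟩, hinv.image_eq hk⟩
    apply Subgroup.eq_of_le_of_card_ge hle
    rw [hcard]
    exact card_stab_pt_octad hO hxO

end Cfsg.Agent.Lib.Helper6.M24Idx
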